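import Groth.Agent.Lib.RelCone11.SpecMap
import Groth.Agent.Lib.SymAlg11.LineSections

/-!
Taylor coefficients along the vertex section of functions defined near it.
-/

set_option autoImplicit false

universe u

open CategoryTheory Limits AlgebraicGeometry TopologicalSpace Opposite
open scoped HomogeneousIdeal

set_option backward.isDefEq.respectTransparency false

noncomputable section

namespace Groth.Agent.Grauert11

open Groth.Agent.SymAlg11 (gres IsHom)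

variable {V : Scheme.{u}}

/-- Pull a function on an open back to a ring along a morphism landing in it. -/
def pullTo {V' : V.Opens} {R : CommRingCat.{u}} (f : Spec R ⟶ V) (hf : ⊤ ≤ f ⁻¹ᵁ V') : Γ(V, V') →+* R :=
  (f.appLE V' ⊤ hf ≫ (Scheme.ΓSpecIso R).hom).hom

theorem pullTo_comp {V' : V.Opens} {R S : CommRingCat.{u}} (f : Spec R ⟶ V) (hf : ⊤ ≤ f ⁻¹ᵁ V') (φ : R ⟶ S)
    (h : ⊤ ≤ (Spec.map φ ≫ f) ⁻¹ᵁ V') (b : Γ(V, V')) :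
    pullTo (Spec.map φ ≫ f) h b = φ (pullTo f hf b) := by
  show ((Spec.map φ ≫ f).appLE V' ⊤ h ≫ (Scheme.ΓSpecIso S).hom) b = (f.appLE V' ⊤ hf ≫ (Scheme.ΓSpecIso R).hom ≫ φ) b
  rw [← Scheme.Hom.appLE_comp_appLE (Spec.map φ) f V' ⊤ ⊤ hf le_top, Category.assoc]
  refine congrArg (fun m => (f.appLE V' ⊤ hf ≫ m) b) ?_
  rw [← Scheme.ΓSpecIso_naturality φ]
  exact congrArg (· ≫ (Scheme.ΓSpecIso S).hom) (Scheme.Hom.appLE_eq_app (Spec.map φ))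

theorem pullTo_congr {V' : V.Opens} {R : CommRingCat.{u}} {f f' : Spec R ⟶ V} (e : f = f') (hf : ⊤ ≤ f ⁻¹ᵁ V')
    (hf' : ⊤ ≤ f' ⁻¹ᵁ V') (b : Γ(V, V')) : pullTo f hf b = pullTo f' hf' b := by
  subst e; rfl

variable {X : Scheme.{u}} (𝒜 : RelProj.QCGrAlg X)

/-- The homogeneous component of an element. -/
abbrev comp {W : X.Opens} (hW : IsAffineOpen W) (n : ℕ) (x : 𝒜.presheaf.obj (op W)) : 𝒜.presheaf.obj (op W) :=
  GradedRing.proj (𝒜.deg W hW) n x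

/-- Elements of degree at least `N`. -/
def hiIdeal {W : X.Opens} (hW : IsAffineOpen W) (N : ℕ) : Ideal (𝒜.presheaf.obj (op W)) :=
  Ideal.span {x | ∃ k, N ≤ k ∧ x ∈ 𝒜.deg W hW k}

theorem comp_eq_zero_of_mem {W : X.Opens} (hW : IsAffineOpen W) {N n : ℕ} (hn : n < N)
    {x : 𝒜.presheaf.obj (op W)} (hx : x ∈ hiIdeal 𝒜 hW N) : comp 𝒜 hW n x = 0 := by
  suffices H : ∀ a, comp 𝒜 hW n (a * x) = 0 by simpa using H 1
  refine Submodule.span_induction (p := fun x _ => ∀ a, comp 𝒜 hW n (a * x) = 0) ?_ ?_ ?_ ?_ hx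
  · rintro y ⟨k, hk, hy⟩ a
    exact DirectSum.coe_decompose_mul_of_right_mem_of_not_le (𝒜.deg W hW) hy (by omega)
  · intro a; simp [comp]
  · intro y z _ _ hy hz a
    rw [mul_add, comp, map_add]
    simp only [comp] at hy hz
    rw [hy, hz, add_zero]
  · intro c y _ hy a
    rw [smul_eq_mul, ← mul_assoc]
    exact hy _

theorem hiIdeal_antitone {W : X.Opens} (hW : IsAffineOpen W) {M N : ℕ} (h : M ≤ N) :
    hiIdeal 𝒜 hW N ≤ hiIdeal 𝒜 hW M :=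
  Ideal.span_mono fun _ ⟨k, hk, hx⟩ => ⟨k, h.trans hk, hx⟩

theorem hiIdeal_le_comap {W W' : X.Opens} (hW : IsAffineOpen W) (hW' : IsAffineOpen W') (le : W' ≤ W) (N : ℕ) :
    hiIdeal 𝒜 hW N ≤ (hiIdeal 𝒜 hW' N).comap (gres 𝒜 le) :=
  Ideal.span_le.2 fun _ ⟨k, hk, hx⟩ => Ideal.subset_span ⟨k, hk, 𝒜.map_mem hW hW' le hx⟩

theorem comp_gres {W W' : X.Opens} (hW : IsAffineOpen W) (hW' : IsAffineOpen W') (le : W' ≤ W) (n : ℕ)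
    (x : 𝒜.presheaf.obj (op W)) : comp 𝒜 hW' n (gres 𝒜 le x) = gres 𝒜 le (comp 𝒜 hW n x) := by
  classical
  conv_lhs => rw [← DirectSum.sum_support_decompose (𝒜.deg W hW) x, map_sum]
  rw [comp, map_sum, Finset.sum_eq_single n]
  · exact DirectSum.decompose_of_mem_same _ (𝒜.map_mem hW hW' le (SetLike.coe_mem _))
  · intro k _ hk
    exact DirectSum.decompose_of_mem_ne _ (𝒜.map_mem hW hW' le (SetLike.coe_mem _)) hk
  · intro h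
    rw [DFinsupp.notMem_support_iff.1 h, ZeroMemClass.coe_zero, map_zero, map_zero]

/-- The thickening of the vertex. -/
def thick {W : X.Opens} (hW : IsAffineOpen W) (N : ℕ) :
    Spec (CommRingCat.of (𝒜.presheaf.obj (op W) ⧸ hiIdeal 𝒜 hW N)) ⟶ 𝒜.toQCAlg.spec :=
  Spec.map (CommRingCat.ofHom (Ideal.Quotient.mk (hiIdeal 𝒜 hW N))) ≫ 𝒜.toQCAlg.ι W hW

theorem thick_notMem_pointedCone {W : X.Opens} (hW : IsAffineOpen W) (N : ℕ)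
    (w : Spec (CommRingCat.of (𝒜.presheaf.obj (op W) ⧸ hiIdeal 𝒜 hW N))) :
    thick 𝒜 hW N w ∉ RelCone.pointedCone 𝒜 := by
  intro h
  rw [thick, Scheme.Hom.comp_apply] at h
  have h := RelCone11.mem_vertexCompl.1 ((RelCone11.mem_pointedCone_iff 𝒜 hW _).1 h)
  refine h ((HomogeneousIdeal.toIdeal_irrelevant_le _).2 fun d hd x hx => ?_)
  have h1 : x ^ (N + 1) ∈ hiIdeal 𝒜 hW N :=
    Ideal.subset_span ⟨(N + 1) * d, by nlinarith, by simpa using SetLike.pow_mem_graded (A := 𝒜.deg W hW) (N + 1) hx⟩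
  show Ideal.Quotient.mk _ x ∈ w.asIdeal
  exact w.isPrime.mem_of_pow_mem (N + 1) (by rw [← map_pow, Ideal.Quotient.eq_zero_iff_mem.2 h1]; exact zero_mem _)

variable {𝒜}
variable {V' : 𝒜.toQCAlg.spec.Opens} {W₀ : X.Opens}
  (hV' : ∀ c : 𝒜.toQCAlg.spec, 𝒜.toQCAlg.π c ∈ W₀ → c ∉ RelCone.pointedCone 𝒜 → c ∈ V')

include hV' in
theorem top_le_preimage {W : X.Opens} (hW : IsAffineOpen W) (hWW : W ≤ W₀) (N : ℕ) :
    ⊤ ≤ thick 𝒜 hW N ⁻¹ᵁ V' := fun w _ =>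
  hV' _ (hWW (RelCone11.π_ι_mem 𝒜.toQCAlg hW _)) (thick_notMem_pointedCone 𝒜 hW N w)

variable (𝒜 V') in
/-- `t` represents `b` to order `N` along the vertex. -/
def IsTrunc {W : X.Opens} (hW : IsAffineOpen W) (N : ℕ) (h : ⊤ ≤ thick 𝒜 hW N ⁻¹ᵁ V') (b : Γ(𝒜.toQCAlg.spec, V'))
    (t : 𝒜.presheaf.obj (op W)) : Prop :=
  Ideal.Quotient.mk (hiIdeal 𝒜 hW N) t = pullTo (thick 𝒜 hW N) h b

theorem IsTrunc.comp_eq {W : X.Opens} {hW : IsAffineOpen W} {N : ℕ} {h : ⊤ ≤ thick 𝒜 hW N ⁻¹ᵁ V'}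
    {b : Γ(𝒜.toQCAlg.spec, V')} {t t' : 𝒜.presheaf.obj (op W)}
    (ht : IsTrunc 𝒜 V' hW N h b t) (ht' : IsTrunc 𝒜 V' hW N h b t') {n : ℕ} (hn : n < N) :
    comp 𝒜 hW n t = comp 𝒜 hW n t' := by
  have h1 := comp_eq_zero_of_mem 𝒜 hW hn (Ideal.Quotient.eq.1 (ht.trans ht'.symm))
  rwa [comp, map_sub, sub_eq_zero] at h1

theorem IsTrunc.res {W W' : X.Opens} {hW : IsAffineOpen W} (hW' : IsAffineOpen W') (le : W' ≤ W) {N : ℕ}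
    {h : ⊤ ≤ thick 𝒜 hW N ⁻¹ᵁ V'} (h' : ⊤ ≤ thick 𝒜 hW' N ⁻¹ᵁ V') {b : Γ(𝒜.toQCAlg.spec, V')}
    {t : 𝒜.presheaf.obj (op W)} (ht : IsTrunc 𝒜 V' hW N h b t) :
    IsTrunc 𝒜 V' hW' N h' b (gres 𝒜 le t) := by
  let ρ : CommRingCat.of (𝒜.presheaf.obj (op W) ⧸ hiIdeal 𝒜 hW N) ⟶
      CommRingCat.of (𝒜.presheaf.obj (op W') ⧸ hiIdeal 𝒜 hW' N) :=
    CommRingCat.ofHom (Ideal.quotientMap (hiIdeal 𝒜 hW' N) (gres 𝒜 le) (hiIdeal_le_comap 𝒜 hW hW' le N))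
  have e : Spec.map ρ ≫ thick 𝒜 hW N = thick 𝒜 hW' N := by
    rw [thick, thick, ← Spec.map_comp_assoc, ← RelCone11.ι_res_general 𝒜.toQCAlg hW hW' le, ← Spec.map_comp_assoc]
    rfl
  have h'' : ⊤ ≤ (Spec.map ρ ≫ thick 𝒜 hW N) ⁻¹ᵁ V' := by rw [e]; exact h'
  rw [IsTrunc, ← pullTo_congr e h'' h', pullTo_comp _ h ρ h'', ← ht]
  rfl

theorem IsTrunc.mono {W : X.Opens} {hW : IsAffineOpen W} {M N : ℕ} (le : M ≤ N)
    {h : ⊤ ≤ thick 𝒜 hW N ⁻¹ᵁ V'} (h' : ⊤ ≤ thick 𝒜 hW M ⁻¹ᵁ V') {b : Γ(𝒜.toQCAlg.spec, V')}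
    {t : 𝒜.presheaf.obj (op W)} (ht : IsTrunc 𝒜 V' hW N h b t) : IsTrunc 𝒜 V' hW M h' b t := by
  let ρ : CommRingCat.of (𝒜.presheaf.obj (op W) ⧸ hiIdeal 𝒜 hW N) ⟶
      CommRingCat.of (𝒜.presheaf.obj (op W) ⧸ hiIdeal 𝒜 hW M) :=
    CommRingCat.ofHom (Ideal.Quotient.factor (hiIdeal_antitone 𝒜 hW le))
  have e : Spec.map ρ ≫ thick 𝒜 hW N = thick 𝒜 hW M := by
    rw [thick, thick, ← Spec.map_comp_assoc]
    rfl
  have h'' : ⊤ ≤ (Spec.map ρ ≫ thick 𝒜 hW N) ⁻¹ᵁ V' := by rw [e]; exact h'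
  rw [IsTrunc, ← pullTo_congr e h'' h', pullTo_comp _ h ρ h'', ← ht]
  rfl

include hV' in
theorem exists_isTrunc {W : X.Opens} (hW : IsAffineOpen W) (hWW : W ≤ W₀) (N : ℕ) (b : Γ(𝒜.toQCAlg.spec, V')) :
    ∃ t, IsTrunc 𝒜 V' hW N (top_le_preimage hV' hW hWW N) b t :=
  Ideal.Quotient.mk_surjective _

include hV' in
/-- The Taylor coefficient of degree `n`. -/
theorem exists_coeff (b : Γ(𝒜.toQCAlg.spec, V')) (n : ℕ) :
    ∃ c : 𝒜.presheaf.obj (op W₀), IsHom 𝒜 W₀ n c ∧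
      ∀ (W : X.Opens) (hW : IsAffineOpen W) (hWW : W ≤ W₀) (N : ℕ), n < N →
        ∀ t, IsTrunc 𝒜 V' hW N (top_le_preimage hV' hW hWW N) b t → comp 𝒜 hW n t = gres 𝒜 hWW c := by
  classical
  let ι := {W : X.affineOpens // (W.1 : X.Opens) ≤ W₀}
  let t : ∀ W : ι, 𝒜.presheaf.obj (op W.1.1) := fun W => (exists_isTrunc hV' W.1.2 W.2 (n + 1) b).choose
  have ht : ∀ W : ι, IsTrunc 𝒜 V' W.1.2 (n + 1) (top_le_preimage hV' W.1.2 W.2 (n + 1)) b (t W) :=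
    fun W => (exists_isTrunc hV' W.1.2 W.2 (n + 1) b).choose_spec
  let val : ∀ W : ι, 𝒜.presheaf.obj (op W.1.1) := fun W => comp 𝒜 W.1.2 n (t W)
  have hres : ∀ (W W' : ι) (le : W'.1.1 ≤ W.1.1), gres 𝒜 le (val W) = val W' := fun W W' le =>
    (comp_gres 𝒜 W.1.2 W'.1.2 le n _).symm.trans
      (((ht W).res W'.1.2 le (top_le_preimage hV' W'.1.2 W'.2 (n + 1))).comp_eq (ht W') (Nat.lt_succ_self n))
  obtain ⟨c, hc, -⟩ := TopCat.Sheaf.existsUnique_gluing' ⟨𝒜.presheaf, 𝒜.isSheaf⟩ (fun W : ι => W.1.1) W₀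
    (fun W => homOfLE W.2) (fun x hx => by
      obtain ⟨W, hW, hxW, hle⟩ := exists_isAffineOpen_mem_and_subset (U := W₀) hx
      exact Opens.mem_iSup.2 ⟨⟨⟨W, hW⟩, hle⟩, hxW⟩) val fun W W' => by
      show gres 𝒜 (inf_le_left : W.1.1 ⊓ W'.1.1 ≤ W.1.1) (val W) =
        gres 𝒜 (inf_le_right : W.1.1 ⊓ W'.1.1 ≤ W'.1.1) (val W')
      refine SymAlg11.eq_of_locally fun x hx => ?_
      obtain ⟨D, hD, hxD, hle⟩ := exists_isAffineOpen_mem_and_subset (U := W.1.1 ⊓ W'.1.1) hx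
      refine ⟨D, hle, hxD, ?_⟩
      rw [SymAlg11.gres_gres, SymAlg11.gres_gres,
        hres W ⟨⟨D, hD⟩, hle.trans (inf_le_left.trans W.2)⟩ (hle.trans inf_le_left),
        hres W' ⟨⟨D, hD⟩, hle.trans (inf_le_left.trans W.2)⟩ (hle.trans inf_le_right)]
  refine ⟨c, fun W hW h => ?_, fun W hW hWW N hN t' ht' => ?_⟩
  · rw [show gres 𝒜 h c = val ⟨⟨W, hW⟩, h⟩ from hc ⟨⟨W, hW⟩, h⟩]
    exact SetLike.coe_mem _
  · rw [show gres 𝒜 hWW c = val ⟨⟨W, hW⟩, hWW⟩ from hc ⟨⟨W, hW⟩, hWW⟩]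
    exact ((ht'.mono hN (top_le_preimage hV' hW hWW (n + 1))).comp_eq (ht ⟨⟨W, hW⟩, hWW⟩) (Nat.lt_succ_self n))

end Groth.Agent.Grauert11
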