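import Groth.Agent.Lib.Grauert11.Fib
import Groth.Agent.Lib.QCGen12.Lift
import Groth.Agent.Lib.RelCone11.Pointed
import Mathlib.AlgebraicGeometry.Morphisms.Separated
import Mathlib.AlgebraicGeometry.Morphisms.OpenImmersion

/-!
The scheme obtained by contracting a closed subscheme to the base.
-/

set_option autoImplicit false

universe u

open CategoryTheory Limits AlgebraicGeometry TopologicalSpace Opposite

set_option backward.isDefEq.respectTransparency false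

noncomputable section

namespace Groth.Agent.Grauert11

section Lift

variable {S P : Scheme.{u}} (A : RelSpec.QCAlg S) (h : P ⟶ S) (ω : A.presheaf ⟶ h.base _* P.presheaf)
  {U : S.Opens} (hU : IsAffineOpen U)

theorem lift_eq_ι (v : P) (hv : h v ∈ U) :
    QCGen12.lift A h ω v = A.ι U hU (Spec.map (ω.app (op U)) ((h ⁻¹ᵁ U).toSpecΓ ⟨v, hv⟩)) :=
  congr($(QCGen12.ι_lift A h ω U hU) ⟨v, hv⟩)

theorem lift_mem_iff (t : A.presheaf.obj (op U)) (v : P) (hv : h v ∈ U) :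
    QCGen12.lift A h ω v ∈ A.ι U hU ''ᵁ PrimeSpectrum.basicOpen t ↔
      v ∈ P.basicOpen (U := h ⁻¹ᵁ U) ((ω.app (op U)).hom t) := by
  rw [lift_eq_ι A h ω hU v hv]
  constructor
  · rintro ⟨w, hw, e⟩
    obtain rfl := RelCone11.ι_injective A U hU e
    have h1 : (⟨v, hv⟩ : (h ⁻¹ᵁ U).toScheme) ∈
        (h ⁻¹ᵁ U).toSpecΓ ⁻¹ᵁ PrimeSpectrum.basicOpen ((ω.app (op U)).hom t) := hw
    rw [Scheme.Opens.toSpecΓ_preimage_basicOpen] at h1
    exact h1
  · intro hb
    refine ⟨_, ?_, rfl⟩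
    have h1 : (⟨v, hv⟩ : (h ⁻¹ᵁ U).toScheme) ∈
        (h ⁻¹ᵁ U).toSpecΓ ⁻¹ᵁ PrimeSpectrum.basicOpen ((ω.app (op U)).hom t) := by
      rw [Scheme.Opens.toSpecΓ_preimage_basicOpen]; exact hb
    exact h1

end Lift

variable {X Y V : Scheme.{u}} {f : V ⟶ Y} [QuasiCompact f] [QuasiSeparated f]
  {j : X ⟶ V} {p : X ⟶ Y} [QuasiCompact p] [QuasiSeparated p] (hjf : j ≫ f = p)

include hjf in
theorem le_preimage_restr (U : Y.Opens) : p ⁻¹ᵁ U ≤ j ⁻¹ᵁ (f ⁻¹ᵁ U) := by
  rw [← Scheme.Hom.comp_preimage, hjf]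

/-- Restriction of functions along `j`. -/
def restr : RelSpec.QCAlg.directImage f ⟶ RelSpec.QCAlg.directImage p where
  hom :=
    { app := fun U => j.appLE (f ⁻¹ᵁ U.unop) (p ⁻¹ᵁ U.unop) (le_preimage_restr hjf U.unop)
      naturality := fun U W i => by
        show V.presheaf.map _ ≫ j.appLE _ _ _ = j.appLE _ _ _ ≫ X.presheaf.map _
        rw [Scheme.Hom.map_appLE, Scheme.Hom.appLE_map] }
  comm := by
    refine NatTrans.ext (funext fun U => ?_)
    obtain ⟨U⟩ := U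
    show f.app U ≫ j.appLE _ _ _ = p.app U
    rw [← Scheme.Hom.comp_appLE j f U]
    subst hjf
    exact (Scheme.Hom.app_eq_appLE _).symm

variable (p) in
/-- Pullback of functions from the base. -/
def unitTo : RelSpec.QCAlg.unit Y ⟶ RelSpec.QCAlg.directImage p := ⟨p.c, Category.id_comp _⟩

/-- Functions on the base and upstairs with the same restriction. -/
abbrev contrAlg : RelSpec.QCAlg Y := fibAlg (unitTo p) (restr hjf)

/-- The section of the contraction. -/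
def contrSec : Y ⟶ (contrAlg hjf).spec :=
  QCGen12.lift (contrAlg hjf) (𝟙 Y) ((fibFst (unitTo p) (restr hjf)).hom :
    (contrAlg hjf).presheaf ⟶ (𝟙 Y : Y ⟶ Y).base _* Y.presheaf)

/-- The contraction. -/
def contrMap : V ⟶ (contrAlg hjf).spec :=
  QCGen12.lift (contrAlg hjf) f (fibSnd (unitTo p) (restr hjf)).hom

theorem contrMap_π : contrMap hjf ≫ (contrAlg hjf).π = f :=
  QCGen12.lift_π _ _ _ (fibSnd (unitTo p) (restr hjf)).comm

theorem contrSec_π : contrSec hjf ≫ (contrAlg hjf).π = 𝟙 Y :=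
  QCGen12.lift_π _ _ _ (NatTrans.ext (funext fun U =>
    NatTrans.congr_app (fibFst (unitTo p) (restr hjf)).comm U))

theorem comp_contrMap : j ≫ contrMap hjf = p ≫ contrSec hjf := by
  refine RelProj11.hom_ext_preimage p _ _ fun U hU => ?_
  have h1 : (p ⁻¹ᵁ U).ι ≫ j = j.resLE (f ⁻¹ᵁ U) (p ⁻¹ᵁ U) (le_preimage_restr hjf U) ≫ (f ⁻¹ᵁ U).ι :=
    (Scheme.Hom.resLE_comp_ι _ _).symm
  have h2 : (p ⁻¹ᵁ U).ι ≫ p = p.resLE U (p ⁻¹ᵁ U) le_rfl ≫ U.ι := (Scheme.Hom.resLE_comp_ι _ _).symm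
  have h3 : U.ι ≫ contrSec hjf = U.toSpecΓ ≫
      Spec.map ((fibFst (unitTo p) (restr hjf)).hom.app (op U)) ≫ (contrAlg hjf).ι U hU :=
    QCGen12.ι_lift (contrAlg hjf) (𝟙 Y) _ U hU
  rw [reassoc_of% h1, reassoc_of% h2, h3, contrMap, QCGen12.ι_lift _ _ _ U hU,
    ← Scheme.Opens.toSpecΓ_SpecMap_appLE_assoc, ← Scheme.Opens.toSpecΓ_SpecMap_appLE_assoc, ← Spec.map_comp_assoc,
    ← Spec.map_comp_assoc]
  refine congrArg (fun m => (p ⁻¹ᵁ U).toSpecΓ ≫ Spec.map m ≫ (contrAlg hjf).ι U hU) ?_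
  rw [← Scheme.Hom.app_eq_appLE]
  exact (NatTrans.congr_app (congrArg RelSpec.QCAlg.Hom.hom (fib_condition (unitTo p) (restr hjf))) (op U)).symm

variable {U : Y.Opens} (hU : IsAffineOpen U) {b : Γ(V, f ⁻¹ᵁ U)}
  (hb : j.appLE (f ⁻¹ᵁ U) (p ⁻¹ᵁ U) (le_preimage_restr hjf U) b = 0)

/-- The function on the contraction given by a function vanishing on the contracted part. -/
def contrFun : (contrAlg hjf).presheaf.obj (op U) :=
  fibMk (unitTo p) (restr hjf) 0 b ((map_zero ((unitTo p).hom.app (op U)).hom).trans hb.symm)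

/-- The open of the contraction where such a function is invertible. -/
def contrOpen : (contrAlg hjf).spec.Opens :=
  (contrAlg hjf).ι U hU ''ᵁ PrimeSpectrum.basicOpen (contrFun hjf hb)

theorem contrMap_mem_iff (v : V) : contrMap hjf v ∈ contrOpen hjf hU hb ↔ v ∈ V.basicOpen b := by
  have key : ∀ hv : f v ∈ U, contrMap hjf v ∈ contrOpen hjf hU hb ↔ v ∈ V.basicOpen b :=
    fun hv => lift_mem_iff (contrAlg hjf) f _ hU (contrFun hjf hb) v hv
  refine ⟨fun h => (key ?_).1 h, fun h => (key (V.basicOpen_le b h)).2 h⟩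
  obtain ⟨w, -, hw⟩ := h
  rw [← contrMap_π hjf, Scheme.Hom.comp_apply, ← hw]
  exact RelCone11.π_ι_mem _ hU w

theorem contrSec_notMem (y : Y) : contrSec hjf y ∉ contrOpen hjf hU hb := by
  intro h
  have hy : y ∈ U := by
    obtain ⟨w, -, hw⟩ := h
    have h1 := congrArg (contrAlg hjf).π hw
    rw [← Scheme.Hom.comp_apply (contrSec hjf), contrSec_π] at h1
    have h1' : y = (contrAlg hjf).π ((contrAlg hjf).ι U hU w) := h1.symm
    rw [h1']
    exact RelCone11.π_ι_mem _ hU w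
  have h2 := (lift_mem_iff (contrAlg hjf) (𝟙 Y) _ hU (contrFun hjf hb) y hy).1 h
  have h3 : y ∈ Y.basicOpen (0 : Γ(Y, U)) := h2
  rw [Scheme.basicOpen_zero] at h3
  exact h3

include hU hb in
theorem isOpenImmersion_ι_contrMap (hbA : IsAffineOpen (V.basicOpen b)) :
    IsOpenImmersion ((V.basicOpen b).ι ≫ contrMap hjf) := by
  let S' := Γ(V, V.basicOpen b)
  let m : (contrAlg hjf).presheaf.obj (op U) ⟶ S' :=
    (fibSnd (unitTo p) (restr hjf)).hom.app (op U) ≫ V.presheaf.map (homOfLE (V.basicOpen_le b)).op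
  have e : (V.basicOpen b).ι ≫ contrMap hjf = hbA.isoSpec.hom ≫ Spec.map m ≫ (contrAlg hjf).ι U hU := by
    rw [← V.homOfLE_ι (V.basicOpen_le b), Category.assoc, contrMap, QCGen12.ι_lift _ _ _ U hU,
      ← Scheme.Opens.toSpecΓ_SpecMap_presheaf_map_assoc, ← Spec.map_comp_assoc]
    rfl
  letI : Algebra ((contrAlg hjf).presheaf.obj (op U)) S' := m.hom.toAlgebra
  letI : Algebra Γ(V, f ⁻¹ᵁ U) S' := (V.presheaf.map (homOfLE (V.basicOpen_le b)).op).hom.toAlgebra
  haveI : IsLocalization.Away b S' :=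
    isLocalization_basicOpen_of_qcqs (f.isCompact_preimage hU.isCompact)
      (f.isQuasiSeparated_preimage hU.isQuasiSeparated) b
  haveI : IsLocalization.Away (contrFun hjf hb) S' := by
    refine IsLocalization.Away.mk _ (IsLocalization.Away.algebraMap_isUnit (S := S') b) (fun z => ?_)
      (fun x y hxy => ?_)
    · obtain ⟨n, c, hc⟩ := IsLocalization.Away.surj b z
      refine ⟨n + 1, fibMk (unitTo p) (restr hjf) 0 (c * b) ((map_zero ((unitTo p).hom.app (op U)).hom).trans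
        ((congrArg (fun t => (j.appLE (f ⁻¹ᵁ U) (p ⁻¹ᵁ U) (le_preimage_restr hjf U) c) * t) hb).trans
          (mul_zero _) |>.symm.trans (map_mul _ _ _).symm)), ?_⟩
      show z * algebraMap Γ(V, f ⁻¹ᵁ U) S' b ^ (n + 1) = algebraMap Γ(V, f ⁻¹ᵁ U) S' (c * b)
      rw [map_mul, ← hc, pow_succ, mul_assoc]
    · obtain ⟨n, hn⟩ := IsLocalization.Away.exists_of_eq (S := S') b
        (show algebraMap Γ(V, f ⁻¹ᵁ U) S' x.1.2 = algebraMap Γ(V, f ⁻¹ᵁ U) S' y.1.2 from hxy)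
      refine ⟨n + 1, fib_ext _ _ ?_ ?_⟩
      · rw [map_mul, map_mul, map_pow, contrFun, fibFst_mk, zero_pow (Nat.succ_ne_zero n), zero_mul, zero_mul]
      · rw [map_mul, map_mul, map_pow, contrFun, fibSnd_mk, pow_succ', mul_assoc, mul_assoc]
        exact congrArg (b * ·) hn
  haveI : IsOpenImmersion (Spec.map m) := IsOpenImmersion.of_isLocalization (S := S') (contrFun hjf hb)
  rw [e]
  infer_instance

/-- Functions cutting out the complement of the contracted part. -/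
def HasLoci (V0 : V.Opens) : Prop :=
  ∀ U : Y.Opens, IsAffineOpen U → ∃ (ι : Type u) (_ : Finite ι) (b : ι → Γ(V, f ⁻¹ᵁ U)),
    (∀ i, j.appLE (f ⁻¹ᵁ U) (p ⁻¹ᵁ U) (le_preimage_restr hjf U) (b i) = 0) ∧
    (∀ i, IsAffineOpen (V.basicOpen (b i))) ∧ V0 ⊓ f ⁻¹ᵁ U = ⨆ i, V.basicOpen (b i)

variable {V0 : V.Opens} (H : HasLoci hjf V0)

include H in
theorem exists_contrOpen {v : V} (hv : v ∈ V0) :
    ∃ (U : Y.Opens) (hU : IsAffineOpen U) (b : Γ(V, f ⁻¹ᵁ U))
      (hb : j.appLE (f ⁻¹ᵁ U) (p ⁻¹ᵁ U) (le_preimage_restr hjf U) b = 0),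
      IsAffineOpen (V.basicOpen b) ∧ v ∈ V.basicOpen b ∧ V.basicOpen b ≤ V0 := by
  obtain ⟨U, hU, hvU, -⟩ := exists_isAffineOpen_mem_and_subset (U := (⊤ : Y.Opens)) (x := f v) trivial
  obtain ⟨ι, _, b, hb, hbA, hcov⟩ := H U hU
  have hv' : v ∈ V0 ⊓ f ⁻¹ᵁ U := ⟨hv, hvU⟩
  rw [hcov] at hv'
  obtain ⟨i, hi⟩ := Opens.mem_iSup.1 hv'
  exact ⟨U, hU, b i, hb i, hbA i, hi, (le_iSup (fun k => V.basicOpen (b k)) i).trans (hcov.ge.trans inf_le_left)⟩

include H in
theorem disjoint_contr : Set.range (V0.ι ≫ contrMap hjf).base ∩ Set.range (contrSec hjf).base = ∅ := by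
  refine Set.eq_empty_iff_forall_notMem.2 ?_
  rintro c ⟨⟨v, rfl⟩, y, hy⟩
  obtain ⟨U, hU, b, hb, -, hvb, -⟩ := exists_contrOpen hjf H v.2
  exact contrSec_notMem hjf hU hb y (by rw [hy]; exact (contrMap_mem_iff hjf hU hb v.1).2 hvb)

include H in
theorem isOpenImmersion_contr : IsOpenImmersion (V0.ι ≫ contrMap hjf) := by
  refine IsOpenImmersion.of_forall_source_exists _ (fun v w hvw => ?_) fun v => ?_
  · obtain ⟨U, hU, b, hb, hbA, hvb, -⟩ := exists_contrOpen hjf H v.2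
    have hvw' : contrMap hjf v.1 = contrMap hjf w.1 := hvw
    have hwb : w.1 ∈ V.basicOpen b :=
      (contrMap_mem_iff hjf hU hb w.1).1 (hvw' ▸ (contrMap_mem_iff hjf hU hb v.1).2 hvb)
    haveI := isOpenImmersion_ι_contrMap hjf hU hb hbA
    have h := ((V.basicOpen b).ι ≫ contrMap hjf).isOpenEmbedding.injective
      (a₁ := ⟨v.1, hvb⟩) (a₂ := ⟨w.1, hwb⟩) hvw'
    exact Subtype.ext (congrArg (fun z : (V.basicOpen b).toScheme => (z.1 : V)) h)
  · obtain ⟨U, hU, b, hb, hbA, hvb, hle⟩ := exists_contrOpen hjf H v.2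
    refine ⟨_, V.homOfLE hle, inferInstance, ⟨⟨v.1, hvb⟩, Subtype.ext ?_⟩, ?_⟩
    · show (V.homOfLE hle ≫ V0.ι) ⟨v.1, hvb⟩ = v.1
      rw [Scheme.homOfLE_ι]
      rfl
    · rw [Scheme.homOfLE_ι_assoc]
      exact isOpenImmersion_ι_contrMap hjf hU hb hbA

include H in
theorem quasiCompact_contr : QuasiCompact (V0.ι ≫ contrMap hjf) := by
  haveI : QuasiCompact ((V0.ι ≫ contrMap hjf) ≫ (contrAlg hjf).π) := by
    rw [Category.assoc, contrMap_π]
    refine quasiCompact_iff_forall_isAffineOpen.mpr fun U hU => ?_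
    obtain ⟨ι, _, b, -, hbA, hcov⟩ := H U hU
    refine V0.ι.isOpenEmbedding.isEmbedding.isCompact_iff.2 ?_
    have : V0.ι '' ((V0.ι ≫ f) ⁻¹ᵁ U : V0.toScheme.Opens) = ((V0 ⊓ f ⁻¹ᵁ U : V.Opens) : Set V) := by
      ext z
      exact ⟨fun ⟨w, hw, e⟩ => e ▸ ⟨w.2, hw⟩, fun ⟨hz, hz'⟩ => ⟨⟨z, hz⟩, hz', rfl⟩⟩
    rw [this, hcov, Opens.coe_iSup]
    exact isCompact_iUnion fun i => (hbA i).isCompact
  exact QuasiCompact.of_comp _ (contrAlg hjf).π

include H in
/-- If the contraction has closed image, its image is everything outside the section. -/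
theorem range_contr_of_isClosed (hcl : IsClosed (Set.range (contrMap hjf).base))
    (hV0 : (V0 : Set V) = (Set.range j.base)ᶜ) :
    Set.range (V0.ι ≫ contrMap hjf).base = (Set.range (contrSec hjf).base)ᶜ := by
  refine subset_antisymm ?_ fun z hz => ?_
  · exact Set.disjoint_iff_inter_eq_empty.2 (disjoint_contr hjf H) |>.subset_compl_right
  obtain ⟨U, hU, hzU, -⟩ :=
    exists_isAffineOpen_mem_and_subset (U := (⊤ : Y.Opens)) (x := (contrAlg hjf).π z) trivial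
  obtain ⟨w, rfl⟩ := RelCone11.mem_range_ι _ hU z hzU
  have hmem : (contrAlg hjf).ι U hU w ∈ Set.range (contrMap hjf).base := by
    by_contra hne
    obtain ⟨_, ⟨t, rfl⟩, hwt, ht⟩ := PrimeSpectrum.isTopologicalBasis_basic_opens.exists_subset_of_mem_open
      (a := w) (u := (contrAlg hjf).ι U hU ⁻¹' (Set.range (contrMap hjf).base)ᶜ) hne
      (hcl.isOpen_compl.preimage ((contrAlg hjf).ι U hU).continuous)
    have hw : ∃ s, ((fibFst (unitTo p) (restr hjf)).hom.app (op U)).hom s = 0 ∧ s ∉ w.asIdeal := by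
      by_contra hcon
      push_neg at hcon
      have hsurj : Function.Surjective ((fibFst (unitTo p) (restr hjf)).hom.app (op U)).hom := fun a =>
        ⟨((contrAlg hjf).str.app (op U)).hom a,
          ConcreteCategory.congr_hom (NatTrans.congr_app (fibFst (unitTo p) (restr hjf)).comm (op U)) a⟩
      have hwr : w ∈ Set.range (PrimeSpectrum.comap ((fibFst (unitTo p) (restr hjf)).hom.app (op U)).hom) := by
        rw [range_comap_of_surjective _ _ hsurj]
        exact fun s hs => hcon s hs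
      obtain ⟨y, hy⟩ := hwr
      refine hz ⟨hU.fromSpec y, ?_⟩
      exact (congr($(QCGen12.fromSpec_lift (contrAlg hjf) (𝟙 Y) _ U hU hU) y)).trans
        (congrArg ((contrAlg hjf).ι U hU) hy)
    obtain ⟨s, hs0, hsw⟩ := hw
    let c : Γ(V, f ⁻¹ᵁ U) := ((fibSnd (unitTo p) (restr hjf)).hom.app (op U)).hom (s * t)
    have hc : V.basicOpen c = ⊥ := le_bot_iff.1 fun v hv => by
      obtain ⟨w', hw', e⟩ := (lift_mem_iff (contrAlg hjf) f _ hU (s * t) v (V.basicOpen_le c hv)).2 hv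
      have h1 : w' ∈ PrimeSpectrum.basicOpen t :=
        fun h => hw' (Ideal.mul_mem_left _ s h)
      exact ht h1 ⟨v, e.symm⟩
    obtain ⟨n, hn⟩ := (Scheme.isNilpotent_iff_basicOpen_eq_bot_of_isCompact
      (f.isCompact_preimage hU.isCompact) c).2 hc
    have h0 : (s * t) ^ (n + 1) = 0 := by
      refine fib_ext _ _ ?_ ?_
      · rw [map_pow, map_mul, hs0, zero_mul, zero_pow (Nat.succ_ne_zero n), map_zero]
      · rw [map_pow, map_zero, pow_succ]
        exact (congrArg (· * c) hn).trans (zero_mul _)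
    exact (w.isPrime.mem_or_mem (w.isPrime.mem_of_pow_mem (n + 1) (h0 ▸ w.asIdeal.zero_mem))).elim hsw hwt
  obtain ⟨v, hv⟩ := hmem
  by_cases hv0 : v ∈ V0
  · exact ⟨⟨v, hv0⟩, hv⟩
  · rw [← SetLike.mem_coe, hV0, Set.notMem_compl_iff] at hv0
    obtain ⟨x, rfl⟩ := hv0
    refine absurd ⟨p x, ?_⟩ hz
    rw [← hv, ← Scheme.Hom.comp_apply, ← Scheme.Hom.comp_apply, comp_contrMap hjf]

end Groth.Agent.Grauert11
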