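import Groth.Prelude.Def_RelSpec
import Mathlib.Topology.Sheaves.SheafCondition.UniqueGluing
import Mathlib.Algebra.Ring.Subring.Basic

/-!
Fibre products of quasi-coherent algebras.
-/

set_option autoImplicit false

universe u

open CategoryTheory Limits AlgebraicGeometry TopologicalSpace Opposite

set_option backward.isDefEq.respectTransparency false

noncomputable section

namespace Groth.Agent.Grauert11

variable {S : Scheme.{u}} {A B D : RelSpec.QCAlg S} (α : A ⟶ D) (β : B ⟶ D)

/-- Pairs of sections with the same image. -/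
def fibRing (U : S.Opens) : Subring (A.presheaf.obj (op U) × B.presheaf.obj (op U)) :=
  RingHom.eqLocus ((α.hom.app (op U)).hom.comp (RingHom.fst _ _))
    ((β.hom.app (op U)).hom.comp (RingHom.snd _ _))

theorem mem_fibRing {U : S.Opens} {x : A.presheaf.obj (op U) × B.presheaf.obj (op U)} :
    x ∈ fibRing α β U ↔ (α.hom.app (op U)).hom x.1 = (β.hom.app (op U)).hom x.2 := Iff.rfl

/-- The presheaf of pairs with the same image. -/
def fibPresheaf : TopCat.Presheaf CommRingCat.{u} S.carrier where
  obj U := .of (fibRing α β U.unop)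
  map {U V} i := CommRingCat.ofHom ((RingHom.prodMap (A.presheaf.map i).hom (B.presheaf.map i).hom).restrict
    (fibRing α β U.unop) (fibRing α β V.unop) fun x hx => by
      show (α.hom.app V).hom ((A.presheaf.map i).hom x.1) = (β.hom.app V).hom ((B.presheaf.map i).hom x.2)
      have hA := ConcreteCategory.congr_hom (α.hom.naturality i) x.1
      have hB := ConcreteCategory.congr_hom (β.hom.naturality i) x.2
      exact hA.trans ((congrArg (D.presheaf.map i).hom hx).trans hB.symm))
  map_id U := by
    ext x
    · exact ConcreteCategory.congr_hom (A.presheaf.map_id U) x.1.1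
    · exact ConcreteCategory.congr_hom (B.presheaf.map_id U) x.1.2
  map_comp {U V W} i j := by
    ext x
    · exact ConcreteCategory.congr_hom (A.presheaf.map_comp i j) x.1.1
    · exact ConcreteCategory.congr_hom (B.presheaf.map_comp i j) x.1.2

theorem isSheaf_fibPresheaf : (fibPresheaf α β).IsSheaf := by
  refine (TopCat.Presheaf.isSheaf_iff_isSheafUniqueGluing (C := CommRingCat.{u}) _).mpr ?_
  intro ι U sf hsf
  obtain ⟨a, ha, hau⟩ := (TopCat.Presheaf.isSheaf_iff_isSheafUniqueGluing _).mp A.isSheaf U
    (fun i => (sf i).1.1) fun i j => congrArg (fun x => x.1.1) (hsf i j)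
  obtain ⟨b, hb, hbu⟩ := (TopCat.Presheaf.isSheaf_iff_isSheafUniqueGluing _).mp B.isSheaf U
    (fun i => (sf i).1.2) fun i j => congrArg (fun x => x.1.2) (hsf i j)
  obtain ⟨d, -, hdu⟩ := (TopCat.Presheaf.isSheaf_iff_isSheafUniqueGluing _).mp D.isSheaf U
    (fun i => (α.hom.app (op (U i))).hom (sf i).1.1) fun i j => by
      have hA := ConcreteCategory.congr_hom (α.hom.naturality (Opens.infLELeft (U i) (U j)).op) (sf i).1.1
      have hB := ConcreteCategory.congr_hom (α.hom.naturality (Opens.infLERight (U i) (U j)).op) (sf j).1.1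
      exact hA.symm.trans ((congrArg _ (congrArg (fun x => x.1.1) (hsf i j))).trans hB)
  have hab : (a, b) ∈ fibRing α β (iSup U) := by
    refine (hdu ((α.hom.app (op (iSup U))).hom a) fun i => ?_).trans
      (hdu ((β.hom.app (op (iSup U))).hom b) fun i => ?_).symm
    · exact (ConcreteCategory.congr_hom (α.hom.naturality (Opens.leSupr U i).op) a).symm.trans
        (congrArg _ (ha i))
    · exact (ConcreteCategory.congr_hom (β.hom.naturality (Opens.leSupr U i).op) b).symm.trans
        ((congrArg _ (hb i)).trans (sf i).2.symm)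
  refine ⟨⟨(a, b), hab⟩, fun i => Subtype.ext (Prod.ext (ha i) (hb i)), fun t ht => Subtype.ext (Prod.ext ?_ ?_)⟩
  · exact hau _ fun i => congrArg (fun x => x.1.1) (ht i)
  · exact hbu _ fun i => congrArg (fun x => x.1.2) (ht i)

/-- The fibre product. -/
def fibAlg : RelSpec.QCAlg S where
  presheaf := fibPresheaf α β
  isSheaf := isSheaf_fibPresheaf α β
  str :=
    { app := fun U => CommRingCat.ofHom ((RingHom.prod (A.str.app U).hom (B.str.app U).hom).codRestrict
        (fibRing α β U.unop) fun a =>
          (ConcreteCategory.congr_hom (NatTrans.congr_app α.comm U) a).trans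
            (ConcreteCategory.congr_hom (NatTrans.congr_app β.comm U) a).symm)
      naturality := fun U V i => CommRingCat.hom_ext (RingHom.ext fun a => Subtype.ext (Prod.ext
        (ConcreteCategory.congr_hom (A.str.naturality i) a) (ConcreteCategory.congr_hom (B.str.naturality i) a))) }
  isQC U hU r := by
    letI := ((fibPresheaf α β).map (homOfLE (S.basicOpen_le r)).op).hom.toAlgebra
    letI := (A.presheaf.map (homOfLE (S.basicOpen_le r)).op).hom.toAlgebra
    letI := (B.presheaf.map (homOfLE (S.basicOpen_le r)).op).hom.toAlgebra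
    letI := (D.presheaf.map (homOfLE (S.basicOpen_le r)).op).hom.toAlgebra
    haveI := A.isQC U hU r
    haveI := B.isQC U hU r
    haveI := D.isQC U hU r
    refine IsLocalization.Away.mk _ ?_ (fun s => ?_) (fun x y hxy => ?_)
    · obtain ⟨v, hv⟩ : ∃ v : Γ(S, S.basicOpen r), (S.presheaf.map (homOfLE (S.basicOpen_le r)).op).hom r * v = 1 :=
        isUnit_iff_exists_inv.mp (RingedSpace.isUnit_res_basicOpen S.toRingedSpace r)
      refine isUnit_iff_exists_inv.mpr ⟨⟨((A.str.app (op (S.basicOpen r))).hom v,
        (B.str.app (op (S.basicOpen r))).hom v), (ConcreteCategory.congr_hom (NatTrans.congr_app α.comm _) v).trans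
          (ConcreteCategory.congr_hom (NatTrans.congr_app β.comm _) v).symm⟩, Subtype.ext (Prod.ext ?_ ?_)⟩
      · show (A.presheaf.map _).hom ((A.str.app (op U)).hom r) * _ = 1
        refine (congrArg (· * _) (ConcreteCategory.congr_hom (A.str.naturality (homOfLE (S.basicOpen_le r)).op) r).symm).trans ?_
        show (A.str.app (op (S.basicOpen r))).hom _ * (A.str.app (op (S.basicOpen r))).hom v = 1
        exact (map_mul _ _ _).symm.trans ((congrArg _ hv).trans (map_one _))
      · show (B.presheaf.map _).hom ((B.str.app (op U)).hom r) * _ = 1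
        refine (congrArg (· * _) (ConcreteCategory.congr_hom (B.str.naturality (homOfLE (S.basicOpen_le r)).op) r).symm).trans ?_
        show (B.str.app (op (S.basicOpen r))).hom _ * (B.str.app (op (S.basicOpen r))).hom v = 1
        exact (map_mul _ _ _).symm.trans ((congrArg _ hv).trans (map_one _))
    · obtain ⟨n, a, ha⟩ := IsLocalization.Away.surj ((A.str.app (op U)).hom r) s.1.1
      obtain ⟨m, b, hb⟩ := IsLocalization.Away.surj ((B.str.app (op U)).hom r) s.1.2
      obtain ⟨a', ha'⟩ : ∃ a', s.1.1 * algebraMap _ _ ((A.str.app (op U)).hom r) ^ (n + m) = algebraMap _ _ a' :=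
        ⟨a * (A.str.app (op U)).hom r ^ m, by rw [pow_add, ← mul_assoc, ha, map_mul, map_pow]⟩
      obtain ⟨b', hb'⟩ : ∃ b', s.1.2 * algebraMap _ _ ((B.str.app (op U)).hom r) ^ (n + m) = algebraMap _ _ b' :=
        ⟨b * (B.str.app (op U)).hom r ^ n, by rw [add_comm n m, pow_add, ← mul_assoc, hb, map_mul, map_pow]⟩
      have hstr : ∀ (E : RelSpec.QCAlg S) (φ : E ⟶ D) (O : (Opens S.carrier)ᵒᵖ) (c : S.presheaf.obj O),
          (φ.hom.app O).hom ((E.str.app O).hom c) = (D.str.app O).hom c :=
        fun E φ O c => ConcreteCategory.congr_hom (NatTrans.congr_app φ.comm O) c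
      have hd : algebraMap _ (D.presheaf.obj (op (S.basicOpen r))) ((α.hom.app (op U)).hom a') =
          algebraMap _ _ ((β.hom.app (op U)).hom b') := by
        have h1 := ConcreteCategory.congr_hom (α.hom.naturality (homOfLE (S.basicOpen_le r)).op) a'
        have h2 := ConcreteCategory.congr_hom (β.hom.naturality (homOfLE (S.basicOpen_le r)).op) b'
        refine h1.symm.trans (Eq.trans ?_ h2)
        show (α.hom.app (op (S.basicOpen r))).hom (algebraMap _ _ a') =
          (β.hom.app (op (S.basicOpen r))).hom (algebraMap _ _ b')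
        rw [← ha', ← hb']
        simp only [map_mul, map_pow]
        congr 1
        · exact s.2
        · congr 1
          refine (ConcreteCategory.congr_hom (α.hom.naturality (homOfLE (S.basicOpen_le r)).op) _).trans
            (Eq.trans ?_ (ConcreteCategory.congr_hom (β.hom.naturality (homOfLE (S.basicOpen_le r)).op) _).symm)
          exact congrArg _ ((hstr A α _ r).trans (hstr B β _ r).symm)
      obtain ⟨k, hk⟩ := IsLocalization.Away.exists_of_eq ((D.str.app (op U)).hom r) hd
      have hmem : ((A.str.app (op U)).hom r ^ k * a', (B.str.app (op U)).hom r ^ k * b') ∈ fibRing α β U := by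
        show (α.hom.app (op U)).hom ((A.str.app (op U)).hom r ^ k * a') =
          (β.hom.app (op U)).hom ((B.str.app (op U)).hom r ^ k * b')
        rw [map_mul, map_mul, map_pow, map_pow, hstr A α, hstr B β]
        exact hk
      refine ⟨n + m + k, ⟨_, hmem⟩, Subtype.ext (Prod.ext ?_ ?_)⟩
      · show s.1.1 * algebraMap _ _ ((A.str.app (op U)).hom r) ^ (n + m + k) =
          algebraMap _ (A.presheaf.obj (op (S.basicOpen r))) ((A.str.app (op U)).hom r ^ k * a')
        rw [pow_add, ← mul_assoc, ha', map_mul, map_pow, mul_comm]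
      · show s.1.2 * algebraMap _ _ ((B.str.app (op U)).hom r) ^ (n + m + k) =
          algebraMap _ (B.presheaf.obj (op (S.basicOpen r))) ((B.str.app (op U)).hom r ^ k * b')
        rw [pow_add, ← mul_assoc, hb', map_mul, map_pow, mul_comm]
    · obtain ⟨n, hn⟩ := IsLocalization.Away.exists_of_eq ((A.str.app (op U)).hom r)
        (show algebraMap _ (A.presheaf.obj (op (S.basicOpen r))) x.1.1 = algebraMap _ _ y.1.1 from
          congrArg (fun z => z.1.1) hxy)
      obtain ⟨m, hm⟩ := IsLocalization.Away.exists_of_eq ((B.str.app (op U)).hom r)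
        (show algebraMap _ (B.presheaf.obj (op (S.basicOpen r))) x.1.2 = algebraMap _ _ y.1.2 from
          congrArg (fun z => z.1.2) hxy)
      refine ⟨n + m, Subtype.ext (Prod.ext ?_ ?_)⟩
      · show (A.str.app (op U)).hom r ^ (n + m) * x.1.1 = (A.str.app (op U)).hom r ^ (n + m) * y.1.1
        rw [add_comm, pow_add, mul_assoc, mul_assoc, hn]
      · show (B.str.app (op U)).hom r ^ (n + m) * x.1.2 = (B.str.app (op U)).hom r ^ (n + m) * y.1.2
        rw [pow_add, mul_assoc, mul_assoc, hm]

/-- The first projection. -/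
def fibFst : fibAlg α β ⟶ A :=
  ⟨{ app := fun U => CommRingCat.ofHom ((RingHom.fst _ _).comp (fibRing α β U.unop).subtype)
     naturality := fun _ _ _ => rfl }, rfl⟩

/-- The second projection. -/
def fibSnd : fibAlg α β ⟶ B :=
  ⟨{ app := fun U => CommRingCat.ofHom ((RingHom.snd _ _).comp (fibRing α β U.unop).subtype)
     naturality := fun _ _ _ => rfl }, rfl⟩

theorem fib_condition : fibFst α β ≫ α = fibSnd α β ≫ β :=
  RelSpec.QCAlg.hom_ext (NatTrans.ext (funext fun U => CommRingCat.hom_ext (RingHom.ext fun x => x.2)))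

/-- A pair of sections with the same image, as a section. -/
def fibMk {U : S.Opens} (a : A.presheaf.obj (op U)) (b : B.presheaf.obj (op U))
    (h : (α.hom.app (op U)).hom a = (β.hom.app (op U)).hom b) : (fibAlg α β).presheaf.obj (op U) :=
  (⟨(a, b), h⟩ : fibRing α β U)

theorem fibFst_mk {U : S.Opens} (a : A.presheaf.obj (op U)) (b : B.presheaf.obj (op U))
    (h : (α.hom.app (op U)).hom a = (β.hom.app (op U)).hom b) :
    ((fibFst α β).hom.app (op U)).hom (fibMk α β a b h) = a := rfl

theorem fibSnd_mk {U : S.Opens} (a : A.presheaf.obj (op U)) (b : B.presheaf.obj (op U))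
    (h : (α.hom.app (op U)).hom a = (β.hom.app (op U)).hom b) :
    ((fibSnd α β).hom.app (op U)).hom (fibMk α β a b h) = b := rfl

theorem fib_ext {U : S.Opens} {x y : (fibAlg α β).presheaf.obj (op U)}
    (h1 : ((fibFst α β).hom.app (op U)).hom x = ((fibFst α β).hom.app (op U)).hom y)
    (h2 : ((fibSnd α β).hom.app (op U)).hom x = ((fibSnd α β).hom.app (op U)).hom y) : x = y :=
  Subtype.ext (Prod.ext h1 h2)

end Groth.Agent.Grauert11
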