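import Groth.Agent.Lib.Grauert11.Coeff
import Groth.Agent.Lib.SymAlg11.LinePow
import Groth.Agent.Lib.RelAmple18.Basic
import Mathlib.RingTheory.PowerSeries.Inverse
import Mathlib.RingTheory.LocalRing.ResidueField.Ideal

/-!
A contraction of the zero section of a line bundle forces ampleness.
-/

set_option autoImplicit false

universe u

open CategoryTheory Limits AlgebraicGeometry TopologicalSpace Opposite
open scoped HomogeneousIdeal

set_option backward.isDefEq.respectTransparency false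

noncomputable section

namespace Groth.Agent.Grauert11

open Groth.Agent.SymAlg11 (gres IsHom tgen nv)

theorem preimage_basicOpen_pullTo {V : Scheme.{u}} {V' : V.Opens} {R : CommRingCat.{u}} (f : Spec R ⟶ V)
    (hf : ⊤ ≤ f ⁻¹ᵁ V') (b : Γ(V, V')) (z : Spec R) :
    f z ∈ V.basicOpen b ↔ pullTo f hf b ∉ z.asIdeal := by
  show z ∈ f ⁻¹ᵁ V.basicOpen b ↔ _
  have h1 : (Spec R).basicOpen ((f.appLE V' ⊤ hf).hom b) = f ⁻¹ᵁ V.basicOpen b := by
    rw [Scheme.basicOpen_appLE, top_inf_eq]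
  rw [← h1, basicOpen_eq_of_affine']
  rfl

variable {X : Scheme.{u}} {L : X.Modules} {𝒜 : RelProj.QCGrAlg X} {j : L ⟶ 𝒜.toModule}

section Series

variable (hLq : Coh.IsQCoh L) (hj : RelProj.IsGrSymAlg L 𝒜 j)
  {W : X.Opens} (hW : IsAffineOpen W) {e : Γ(L, W)} (he : M2.IsGenerator e)
  {K : Type u} [Field K] (σ : Γ(X, W) →+* K)

include hLq hj hW he in
theorem exists_series :
    ∃ Φ : 𝒜.presheaf.obj (op W) →+* PowerSeries K, ∀ (a : Γ(X, W)) (n : ℕ),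
      Φ ((𝒜.str.app (op W)).hom a * tgen j W e ^ n) = PowerSeries.C (σ a) * PowerSeries.X ^ n := by
  refine ⟨((Polynomial.coeToPowerSeries.ringHom).comp (Polynomial.mapRingHom σ)).comp
    (RingEquiv.ofBijective _ (SymAlg11.bijective_poly hLq hj hW he)).symm.toRingHom, fun a n => ?_⟩
  have h1 : (RingEquiv.ofBijective _ (SymAlg11.bijective_poly hLq hj hW he)).symm
      ((𝒜.str.app (op W)).hom a * tgen j W e ^ n) = Polynomial.monomial n a := by
    rw [RingEquiv.symm_apply_eq]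
    exact (Polynomial.eval₂_monomial _ _).symm
  simp only [RingHom.comp_apply, RingEquiv.toRingHom_eq_coe, RingEquiv.coe_toRingHom, h1,
    Polynomial.coe_mapRingHom, Polynomial.map_monomial, Polynomial.coeToPowerSeries.ringHom_apply]
  rw [← Polynomial.C_mul_X_pow_eq_monomial, Polynomial.coe_mul, Polynomial.coe_pow, Polynomial.coe_C,
    Polynomial.coe_X]

variable {Φ : 𝒜.presheaf.obj (op W) →+* PowerSeries K}
  (hΦ : ∀ (a : Γ(X, W)) (n : ℕ),
    Φ ((𝒜.str.app (op W)).hom a * tgen j W e ^ n) = PowerSeries.C (σ a) * PowerSeries.X ^ n)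

include hΦ hLq hj he in
theorem series_hiIdeal (N : ℕ) :
    hiIdeal 𝒜 hW N ≤ (Ideal.span {PowerSeries.X ^ N}).comap Φ := by
  refine Ideal.span_le.2 fun y ⟨k, hk, hy⟩ => ?_
  obtain ⟨a, rfl⟩ := SymAlg11.exists_eq_of_mem hLq hj hW he hy
  show Φ _ ∈ Ideal.span _
  rw [hΦ, Ideal.mem_span_singleton]
  exact Dvd.dvd.mul_left (pow_dvd_pow _ hk) _

include hΦ hLq hj he in
theorem coeff_series {n : ℕ} {t : 𝒜.presheaf.obj (op W)} {a : Γ(X, W)}
    (ha : comp 𝒜 hW n t = (𝒜.str.app (op W)).hom a * tgen j W e ^ n) :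
    PowerSeries.coeff n (Φ t) = σ a := by
  classical
  conv_lhs => rw [← DirectSum.sum_support_decompose (𝒜.deg W hW) t, map_sum, map_sum]
  rw [Finset.sum_eq_single n]
  · rw [show (DirectSum.decompose (𝒜.deg W hW) t n : 𝒜.presheaf.obj (op W)) = _ from ha, hΦ,
      PowerSeries.coeff_C_mul_X_pow, if_pos rfl]
  · intro k _ hk
    obtain ⟨b, hb⟩ := SymAlg11.exists_eq_of_mem hLq hj hW he
      (SetLike.coe_mem (DirectSum.decompose (𝒜.deg W hW) t k))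
    rw [hb, hΦ, PowerSeries.coeff_C_mul_X_pow, if_neg (Ne.symm hk)]
  · intro h
    rw [DFinsupp.notMem_support_iff.1 h, ZeroMemClass.coe_zero, map_zero, map_zero]

end Series

variable (hL : PicF.IsInvertible L) (hLq : Coh.IsQCoh L) (hj : RelProj.IsGrSymAlg L 𝒜 j)
  {aug : 𝒜.toQCAlg ⟶ RelSpec.QCAlg.unit X} (haug : RelCone.IsAugmentation 𝒜 aug)
  {j0 : X ⟶ 𝒜.toQCAlg.spec} (hj0 : RelCone.IsVertex 𝒜 aug j0)
  {V' : 𝒜.toQCAlg.spec.Opens} {W₀ : X.Opens}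
  (hV' : ∀ c : 𝒜.toQCAlg.spec, 𝒜.toQCAlg.π c ∈ W₀ → c ∉ RelCone.pointedCone 𝒜 → c ∈ V')

include hV' in
/-- A family of sections is the family of Taylor coefficients. -/
theorem exists_coeff_family (b : Γ(𝒜.toQCAlg.spec, V')) :
    ∃ c : ℕ → 𝒜.presheaf.obj (op W₀), ∀ n, IsHom 𝒜 W₀ n (c n) ∧
      ∀ (W : X.Opens) (hW : IsAffineOpen W) (hWW : W ≤ W₀) (N : ℕ), n < N →
        ∀ t, IsTrunc 𝒜 V' hW N (top_le_preimage hV' hW hWW N) b t → comp 𝒜 hW n t = gres 𝒜 hWW (c n) := by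
  choose c hc using exists_coeff hV' b
  exact ⟨c, hc⟩

include hL hLq hj haug hj0 hV' in
/-- The generic point of a fibre of the bundle sees the Taylor coefficients. -/
theorem exists_fibre_point (x : X) (hx : x ∈ W₀) :
    ∃ η : 𝒜.toQCAlg.spec, 𝒜.toQCAlg.π η = x ∧ η ∈ RelCone.pointedCone 𝒜 ∧ η ∈ V' ∧
      ∀ (b : Γ(𝒜.toQCAlg.spec, V')) (c : ℕ → 𝒜.presheaf.obj (op W₀)),
        (∀ n, IsHom 𝒜 W₀ n (c n) ∧ ∀ (W : X.Opens) (hW : IsAffineOpen W) (hWW : W ≤ W₀) (N : ℕ), n < N →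
          ∀ t, IsTrunc 𝒜 V' hW N (top_le_preimage hV' hW hWW N) b t → comp 𝒜 hW n t = gres 𝒜 hWW (c n)) →
        ((η ∈ 𝒜.toQCAlg.spec.basicOpen b ∧ j0 x ∉ 𝒜.toQCAlg.spec.basicOpen b) →
          ∃ n, 0 < n ∧ x ∈ nv 𝒜 W₀ n (c n)) ∧
        ((∃ n, x ∈ nv 𝒜 W₀ n (c n)) → η ∈ 𝒜.toQCAlg.spec.basicOpen b) := by
  classical
  obtain ⟨W, e, hxW, hWW, hW, he⟩ := Amp.exists_isGenerator hL hx
  let p := (hW.primeIdealOf ⟨x, hxW⟩).asIdeal
  let σ : Γ(X, W) →+* p.ResidueField := algebraMap _ _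
  have hσ : ∀ a, σ a = 0 ↔ a ∈ p := fun a => by
    rw [← RingHom.mem_ker, Ideal.ker_algebraMap_residueField]
  obtain ⟨Φ, hΦ⟩ := exists_series hLq hj hW he σ
  let R : CommRingCat.{u} := CommRingCat.of (PowerSeries p.ResidueField)
  let Φ' : 𝒜.presheaf.obj (op W) ⟶ R := CommRingCat.ofHom Φ
  let φ : Spec R ⟶ 𝒜.toQCAlg.spec := Spec.map Φ' ≫ 𝒜.toQCAlg.ι W hW
  have hΦ0 : ∀ y, PowerSeries.constantCoeff (Φ y) = σ ((RelCone11.augAt 𝒜 aug W).hom y) := by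
    have key : ((PowerSeries.constantCoeff).comp Φ).comp (Polynomial.eval₂RingHom (𝒜.str.app (op W)).hom (tgen j W e)) =
        (σ.comp (RelCone11.augAt 𝒜 aug W).hom).comp (Polynomial.eval₂RingHom (𝒜.str.app (op W)).hom (tgen j W e)) := by
      refine Polynomial.ringHom_ext (fun a => ?_) ?_
      · simp only [RingHom.comp_apply, Polynomial.coe_eval₂RingHom, Polynomial.eval₂_C]
        have h1 := hΦ a 0
        rw [pow_zero, mul_one, pow_zero, mul_one] at h1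
        rw [h1, PowerSeries.constantCoeff_C]
        exact congrArg σ (RelCone11.str_aug 𝒜 aug W a).symm
      · simp only [RingHom.comp_apply, Polynomial.coe_eval₂RingHom, Polynomial.eval₂_X]
        have h1 := hΦ 1 1
        rw [map_one, one_mul, pow_one, map_one, map_one, one_mul, pow_one] at h1
        have h2 : (RelCone11.augAt 𝒜 aug W).hom (tgen j W e) = 0 :=
          haug W hW 0 _ (SymAlg11.tgen_mem hj hW e)
        rw [h1, PowerSeries.constantCoeff_X, h2, map_zero]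
    intro y
    obtain ⟨q, rfl⟩ := (SymAlg11.bijective_poly hLq hj hW he).2 y
    exact RingHom.congr_fun key q
  have hclosed : φ (IsLocalRing.closedPoint (PowerSeries p.ResidueField)) = j0 x := by
    have h1 : x = hW.fromSpec (hW.primeIdealOf ⟨x, hxW⟩) := (hW.fromSpec_primeIdealOf ⟨x, hxW⟩).symm
    conv_rhs => rw [h1, ← Scheme.Hom.comp_apply, hj0.chart W hW, Scheme.Hom.comp_apply]
    show 𝒜.toQCAlg.ι W hW (Spec.map Φ' _) = _
    refine congrArg _ (PrimeSpectrum.ext (Ideal.ext fun y => ?_))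
    show Φ y ∈ IsLocalRing.maximalIdeal _ ↔ (aug.hom.app (op W)).hom y ∈ p
    rw [IsLocalRing.mem_maximalIdeal, mem_nonunits_iff, PowerSeries.isUnit_iff_constantCoeff, hΦ0,
      isUnit_iff_ne_zero, not_not]
    exact hσ _
  have hnot : j0 x ∉ RelCone.pointedCone 𝒜 := by
    intro h
    have h1 : hW.fromSpec (hW.primeIdealOf ⟨x, hxW⟩) = x := hW.fromSpec_primeIdealOf ⟨x, hxW⟩
    rw [← h1, ← Scheme.Hom.comp_apply, hj0.chart W hW, Scheme.Hom.comp_apply] at h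
    have h2 := RelCone11.mem_vertexCompl.1 ((RelCone11.mem_pointedCone_iff 𝒜 hW _).1 h)
    refine h2 ((HomogeneousIdeal.toIdeal_irrelevant_le _).2 fun d hd y hy => ?_)
    obtain ⟨d, rfl⟩ := Nat.exists_eq_succ_of_ne_zero hd.ne'
    show (aug.hom.app (op W)).hom y ∈ p
    rw [haug W hW d y hy]
    exact zero_mem _
  have hπ0 : 𝒜.toQCAlg.π (j0 x) = x := by rw [← Scheme.Hom.comp_apply, hj0.comp_π]; rfl
  have hφ : ⊤ ≤ φ ⁻¹ᵁ V' := fun z _ =>
    (IsLocalRing.specializes_closedPoint z).mem_open (φ ⁻¹ᵁ V').isOpen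
      (show φ (IsLocalRing.closedPoint _) ∈ V' by rw [hclosed]; exact hV' _ (by rw [hπ0]; exact hx) hnot)
  let g : Spec R := (⟨⊥, Ideal.isPrime_bot⟩ : PrimeSpectrum (PowerSeries p.ResidueField))
  refine ⟨φ g, ?_, ?_, hφ (Set.mem_univ g), fun b c hc => ?_⟩
  · show 𝒜.toQCAlg.π (𝒜.toQCAlg.ι W hW (Spec.map Φ' g)) = x
    rw [← Scheme.Hom.comp_apply, RelSpec.QCAlg.ι_π, Scheme.Hom.comp_apply]
    refine (congrArg hW.fromSpec (PrimeSpectrum.ext (Ideal.ext fun a => ?_))).trans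
      (hW.fromSpec_primeIdealOf ⟨x, hxW⟩)
    show Φ ((𝒜.str.app (op W)).hom a) ∈ (⊥ : Ideal (PowerSeries p.ResidueField)) ↔ a ∈ p
    have h1 := hΦ a 0
    rw [pow_zero, mul_one, pow_zero, mul_one] at h1
    rw [h1, Ideal.mem_bot, map_eq_zero_iff _ PowerSeries.C_injective]
    exact hσ a
  · refine (RelCone11.mem_pointedCone_iff 𝒜 hW _).2 (RelCone11.mem_vertexCompl.2 fun h => ?_)
    have h1 := h (HomogeneousIdeal.mem_irrelevant_of_mem _ one_pos (SymAlg11.tgen_mem hj hW e))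
    have h2 : Φ (tgen j W e) = 0 := h1
    have h3 := hΦ 1 1
    rw [map_one, one_mul, pow_one, map_one, map_one, one_mul, pow_one, h2] at h3
    exact PowerSeries.X_ne_zero h3.symm
  · let β : PowerSeries p.ResidueField := pullTo φ hφ b
    have hg : φ g ∈ 𝒜.toQCAlg.spec.basicOpen b ↔ β ≠ 0 := by
      rw [preimage_basicOpen_pullTo φ hφ b g]
      exact not_congr Ideal.mem_bot
    have h0 : j0 x ∈ 𝒜.toQCAlg.spec.basicOpen b ↔ PowerSeries.constantCoeff β ≠ 0 := by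
      rw [← hclosed, preimage_basicOpen_pullTo φ hφ b]
      show β ∉ IsLocalRing.maximalIdeal _ ↔ _
      rw [IsLocalRing.mem_maximalIdeal, mem_nonunits_iff, not_not, PowerSeries.isUnit_iff_constantCoeff,
        isUnit_iff_ne_zero]
    have hcoeff : ∀ n, PowerSeries.coeff n β ≠ 0 ↔ x ∈ nv 𝒜 W₀ n (c n) := by
      intro n
      obtain ⟨t, ht⟩ := exists_isTrunc hV' hW hWW (n + 1) b
      obtain ⟨a, ha⟩ := SymAlg11.exists_eq_of_mem hLq hj hW he (SetLike.coe_mem (DirectSum.decompose (𝒜.deg W hW) t n))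
      have ha' : comp 𝒜 hW n t = (𝒜.str.app (op W)).hom a * tgen j W e ^ n := ha
      have hcn := ((hc n).2 W hW hWW (n + 1) (Nat.lt_succ_self n) t ht).symm.trans ha'
      rw [SymAlg11.mem_nv_iff hLq hj hW hWW he hcn hxW]
      let I : Ideal (PowerSeries p.ResidueField) := Ideal.span {PowerSeries.X ^ (n + 1)}
      let ρ : CommRingCat.of (𝒜.presheaf.obj (op W) ⧸ hiIdeal 𝒜 hW (n + 1)) ⟶
          CommRingCat.of (PowerSeries p.ResidueField ⧸ I) :=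
        CommRingCat.ofHom (Ideal.quotientMap I Φ (series_hiIdeal hLq hj hW he σ hΦ (n + 1)))
      let m : R ⟶ CommRingCat.of (PowerSeries p.ResidueField ⧸ I) := CommRingCat.ofHom (Ideal.Quotient.mk I)
      have e1 : Spec.map ρ ≫ thick 𝒜 hW (n + 1) = Spec.map m ≫ φ := by
        rw [thick, ← Spec.map_comp_assoc, ← Spec.map_comp_assoc]
        rfl
      have h2 : ⊤ ≤ (Spec.map m ≫ φ) ⁻¹ᵁ V' := fun z _ => hφ (Set.mem_univ (Spec.map m z))
      have h3 : ⊤ ≤ (Spec.map ρ ≫ thick 𝒜 hW (n + 1)) ⁻¹ᵁ V' := by rw [e1]; exact h2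
      have h4 : Ideal.Quotient.mk I β = Ideal.Quotient.mk I (Φ t) := by
        have := (pullTo_comp φ hφ m h2 b).symm.trans
          ((pullTo_congr e1 h3 h2 b).symm.trans
            (pullTo_comp _ (top_le_preimage hV' hW hWW (n + 1)) ρ h3 b))
        rw [← ht] at this
        exact this
      rw [Ideal.Quotient.eq, Ideal.mem_span_singleton, PowerSeries.X_pow_dvd_iff] at h4
      have h5 := h4 n (Nat.lt_succ_self n)
      rw [map_sub, sub_eq_zero] at h5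
      rw [h5, coeff_series hLq hj hW he σ hΦ ha', ne_eq, hσ]
      have h6 : hW.fromSpec (hW.primeIdealOf ⟨x, hxW⟩) ∈ X.basicOpen a ↔ a ∉ p := by
        show _ ∈ hW.fromSpec ⁻¹ᵁ X.basicOpen a ↔ _
        rw [hW.fromSpec_preimage_basicOpen]
        exact Iff.rfl
      rw [hW.fromSpec_primeIdealOf] at h6
      exact h6.symm
    refine ⟨fun ⟨hη, hj'⟩ => ?_, fun ⟨n, hn⟩ => hg.2 fun h => ?_⟩
    · by_contra hne
      refine hg.1 hη (PowerSeries.ext fun n => ?_)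
      rw [map_zero]
      by_contra hn
      rcases Nat.eq_zero_or_pos n with rfl | hpos
      · rw [PowerSeries.coeff_zero_eq_constantCoeff_apply] at hn
        exact hj' (h0.2 hn)
      · exact hne ⟨n, hpos, (hcoeff n).1 hn⟩
    · exact (hcoeff n).2 hn (by rw [h, map_zero])

variable {Y C : Scheme.{u}} (p : X ⟶ Y) [QuasiCompact p] (g : C ⟶ Y) (ε : Y ⟶ C) (q : 𝒜.toQCAlg.spec ⟶ C)
  (h0 : RelCone.StrZeroBij 𝒜) {V0 : 𝒜.toQCAlg.spec.Opens}
  (hV0 : (V0 : Set 𝒜.toQCAlg.spec) = (Set.range j0.base)ᶜ)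

include hL hLq hj h0 haug hj0 hV0 in
/-- The reverse direction of Grauert's criterion. -/
theorem isRelAmple_of_contraction (hj0q : j0 ≫ q = p ≫ ε) [IsOpenImmersion (V0.ι ≫ q)]
    (hdis : Set.range (V0.ι ≫ q).base ∩ Set.range ε.base = ∅) : RelAmple.IsRelAmple p L := by
  have hpc : ∀ c, c ∈ RelCone.pointedCone 𝒜 ↔ c ∈ V0 := fun c => by
    rw [← SetLike.mem_coe, RelCone11.pointedCone_eq_compl 𝒜 aug h0 haug hj0, ← hV0, SetLike.mem_coe]
  refine RA.isRelAmple_of_local p fun y => ?_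
  obtain ⟨C', hC', hyC', -⟩ := exists_isAffineOpen_mem_and_subset (U := (⊤ : C.Opens)) (x := ε y) trivial
  obtain ⟨U, hU, hyU, hUC⟩ := exists_isAffineOpen_mem_and_subset (U := ε ⁻¹ᵁ C') (x := y) hyC'
  refine ⟨U, hU, hyU, ?_⟩
  let W₀ : X.Opens := p ⁻¹ᵁ U
  let V' : 𝒜.toQCAlg.spec.Opens := q ⁻¹ᵁ C'
  have hV' : ∀ c : 𝒜.toQCAlg.spec, 𝒜.toQCAlg.π c ∈ W₀ → c ∉ RelCone.pointedCone 𝒜 → c ∈ V' := by
    intro c hc hcp
    rw [hpc, ← SetLike.mem_coe, hV0, Set.notMem_compl_iff] at hcp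
    obtain ⟨x, rfl⟩ := hcp
    rw [← Scheme.Hom.comp_apply, hj0.comp_π] at hc
    show q (j0 x) ∈ C'
    rw [← Scheme.Hom.comp_apply, hj0q]
    exact hUC hc
  haveI : CompactSpace (W₀ : Scheme.{u}) := RA.compactSpace_of_isCompact (RA.isCompact_preimage p hU)
  refine Amp.isAmple_of_basis
    (M2.isInvertible_of_iso ((Scheme.Modules.restrictFunctorIsoPullback W₀.ι).app L).symm
      (PicLoc.isInvertible_pullback W₀.ι hL)) fun x₁ G₁ hxG₁ => ?_
  let G : X.Opens := W₀.ι ''ᵁ G₁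
  have hxG : (x₁.1 : X) ∈ G := ⟨x₁, hxG₁, rfl⟩
  obtain ⟨η, hπη, hηc, hηV, hη⟩ := exists_fibre_point hL hLq hj haug hj0 hV' x₁.1 x₁.2
  let O : C.Opens := (V0.ι ≫ q) ''ᵁ (V0.ι ⁻¹ᵁ (𝒜.toQCAlg.π ⁻¹ᵁ G))
  have hO : q η ∈ C' ⊓ O := ⟨hηV, ⟨⟨η, (hpc η).1 hηc⟩, (show 𝒜.toQCAlg.π η ∈ G from hπη ▸ hxG), rfl⟩⟩
  obtain ⟨f, hf, hfη⟩ := hC'.exists_basicOpen_le ⟨q η, hO.2⟩ hO.1
  let b : Γ(𝒜.toQCAlg.spec, V') := (q.app C').hom f
  have hb : ∀ c, c ∈ 𝒜.toQCAlg.spec.basicOpen b ↔ q c ∈ C.basicOpen f := fun c => by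
    rw [← Scheme.preimage_basicOpen]; rfl
  obtain ⟨c, hc⟩ := exists_coeff_family hV' b
  obtain ⟨n, hn, hxn⟩ := (hη b c hc).1 ⟨(hb η).2 hfη, fun h => by
    obtain ⟨z, -, hz⟩ := hf ((hb _).1 h)
    have h1 : q (j0 x₁.1) ∈ Set.range (V0.ι ≫ q).base ∩ Set.range ε.base :=
      ⟨⟨z, hz⟩, p x₁.1, by
        show ε (p x₁.1) = q (j0 x₁.1)
        rw [← Scheme.Hom.comp_apply, ← Scheme.Hom.comp_apply, hj0q]⟩
    rw [hdis] at h1
    exact h1⟩
  have hle : nv 𝒜 W₀ n (c n) ≤ G := fun x hx => by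
    obtain ⟨η', hπη', hηc', -, hη'⟩ :=
      exists_fibre_point hL hLq hj haug hj0 hV' x (SymAlg11.nv_le W₀ n (c n) hx)
    obtain ⟨z, hz, hzq⟩ := hf ((hb η').1 ((hη' b c hc).2 ⟨n, hx⟩))
    have h1 : z = ⟨η', (hpc η').1 hηc'⟩ :=
      (V0.ι ≫ q).isOpenEmbedding.injective hzq
    rw [h1] at hz
    have h2 : 𝒜.toQCAlg.π η' ∈ G := hz
    rwa [hπη'] at h2
  refine ⟨n - 1, W₀.ι ⁻¹ᵁ nv 𝒜 W₀ n (c n), ?_, hxn, fun z hz => ?_⟩
  · rw [Nat.sub_add_cancel hn]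
    exact SymAlg11.hasSec_of_isHom hLq hj hL W₀ (hc n).1
  · obtain ⟨z', hz', e⟩ := hle hz
    exact (W₀.ι.isOpenEmbedding.injective e) ▸ hz'

end Groth.Agent.Grauert11
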