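import Groth.Agent.Lib.Grauert11.Contract
import Groth.Agent.Lib.Grauert11.Reverse
import Groth.Agent.Lib.RelSpecB.Basic

/-!
An ample line bundle provides functions cutting out the pointed bundle.
-/

set_option autoImplicit false

universe u

open CategoryTheory Limits AlgebraicGeometry TopologicalSpace Opposite
open scoped HomogeneousIdeal

set_option backward.isDefEq.respectTransparency false

noncomputable section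

namespace Groth.Agent.Grauert11

open Groth.Agent.SymAlg11 (gres IsHom tgen nv)

theorem pullTo_fromSpec {X : Scheme.{u}} {W : X.Opens} (hW : IsAffineOpen W)
    (h : ⊤ ≤ hW.fromSpec ⁻¹ᵁ W) (a : Γ(X, W)) : pullTo hW.fromSpec h a = a := by
  have : hW.fromSpec.appLE W ⊤ h ≫ (Scheme.ΓSpecIso Γ(X, W)).hom = 𝟙 _ := by
    rw [Scheme.Hom.appLE, hW.fromSpec_app_self, Category.assoc, Category.assoc, ← Functor.map_comp_assoc]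
    rw [show (Spec Γ(X, W)).presheaf.map _ = 𝟙 _ from by
      rw [← CategoryTheory.Functor.map_id]; congr 1, Category.id_comp, Iso.inv_hom_id]
  exact ConcreteCategory.congr_hom this a

variable {X : Scheme.{u}} {L : X.Modules} {𝒜 : RelProj.QCGrAlg X} {j : L ⟶ 𝒜.toModule}

variable (𝒜) in
/-- The function on the bundle given by a section of the algebra. -/
def funOf (W : X.Opens) (c : 𝒜.presheaf.obj (op W)) : Γ(𝒜.toQCAlg.spec, 𝒜.toQCAlg.π ⁻¹ᵁ W) :=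
  ((RelSpecB.gammaInv 𝒜.toQCAlg).app (op W)).hom c

theorem top_le_chart {W W' : X.Opens} (hW' : IsAffineOpen W') (le : W' ≤ W) :
    ⊤ ≤ 𝒜.toQCAlg.ι W' hW' ⁻¹ᵁ (𝒜.toQCAlg.π ⁻¹ᵁ W) := fun z _ =>
  le (RelCone11.π_ι_mem 𝒜.toQCAlg hW' z)

theorem pullTo_funOf {W W' : X.Opens} (hW' : IsAffineOpen W') (le : W' ≤ W) (c : 𝒜.presheaf.obj (op W)) :
    pullTo (𝒜.toQCAlg.ι W' hW') (top_le_chart hW' le) (funOf 𝒜 W c) = gres 𝒜 le c := by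
  have h1 := ConcreteCategory.congr_hom
    (NatTrans.congr_app (RelSpecB.gammaInv_gammaMap 𝒜.toQCAlg) (op W)) c
  have h2 : (𝒜.toQCAlg.gammaMap.app (op W)).hom (funOf 𝒜 W c) = c := h1
  have h3 := ConcreteCategory.congr_hom (𝒜.toQCAlg.gammaMap.naturality (homOfLE le).op) (funOf 𝒜 W c)
  have h4 : (𝒜.toQCAlg.gammaAff W' hW').hom
      ((𝒜.toQCAlg.spec.presheaf.map (homOfLE (𝒜.toQCAlg.π.preimage_mono le)).op).hom (funOf 𝒜 W c)) =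
        gres 𝒜 le c := by
    rw [← 𝒜.toQCAlg.gammaMap_app W' hW']
    exact h3.trans (congrArg (gres 𝒜 le) h2)
  rw [← h4]
  show ((𝒜.toQCAlg.ι W' hW').appLE (𝒜.toQCAlg.π ⁻¹ᵁ W) ⊤ _ ≫ (Scheme.ΓSpecIso _).hom) (funOf 𝒜 W c) =
    ((𝒜.toQCAlg.spec.presheaf.map (homOfLE (𝒜.toQCAlg.π.preimage_mono le)).op) ≫
      (𝒜.toQCAlg.ι W' hW').appLE (𝒜.toQCAlg.π ⁻¹ᵁ W') ⊤ _ ≫ (Scheme.ΓSpecIso _).hom) (funOf 𝒜 W c)
  rw [Scheme.Hom.map_appLE_assoc]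

variable {aug : 𝒜.toQCAlg ⟶ RelSpec.QCAlg.unit X} {j0 : X ⟶ 𝒜.toQCAlg.spec}
  (hj0 : RelCone.IsVertex 𝒜 aug j0)

include hj0 in
theorem le_vertex_preimage (W : X.Opens) : W ≤ j0 ⁻¹ᵁ (𝒜.toQCAlg.π ⁻¹ᵁ W) := by
  rw [← Scheme.Hom.comp_preimage, hj0.comp_π]
  exact le_rfl

theorem vertex_funOf {W : X.Opens} (haug : RelCone.IsAugmentation 𝒜 aug) {n : ℕ}
    {c : 𝒜.presheaf.obj (op W)} (hc : IsHom 𝒜 W (n + 1) c) :
    j0.appLE (𝒜.toQCAlg.π ⁻¹ᵁ W) W (le_vertex_preimage hj0 W) (funOf 𝒜 W c) = 0 := by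
  refine TopCat.Presheaf.section_ext X.sheaf _ _ _ fun x hx => ?_
  obtain ⟨W', hW', hxW', hle⟩ := exists_isAffineOpen_mem_and_subset (U := W) hx
  show X.presheaf.germ W x hx _ = X.presheaf.germ W x hx 0
  rw [← X.presheaf.germ_res_apply (homOfLE hle) x hxW', ← X.presheaf.germ_res_apply (homOfLE hle) x hxW' 0]
  refine congrArg _ ?_
  rw [map_zero, ← ConcreteCategory.comp_apply, Scheme.Hom.appLE_map]
  have e : hW'.fromSpec ≫ j0 = Spec.map (RelCone11.augAt 𝒜 aug W') ≫ 𝒜.toQCAlg.ι W' hW' := hj0.chart W' hW'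
  have h1 : ⊤ ≤ hW'.fromSpec ⁻¹ᵁ W' := hW'.fromSpec_preimage_self.ge
  have h2 : ⊤ ≤ (hW'.fromSpec ≫ j0) ⁻¹ᵁ (𝒜.toQCAlg.π ⁻¹ᵁ W) := fun z hz =>
    le_vertex_preimage hj0 W (hle (h1 hz))
  have h3 : ⊤ ≤ (Spec.map (RelCone11.augAt 𝒜 aug W') ≫ 𝒜.toQCAlg.ι W' hW') ⁻¹ᵁ (𝒜.toQCAlg.π ⁻¹ᵁ W) := by
    rw [← e]; exact h2
  have h4 : pullTo (hW'.fromSpec ≫ j0) h2 (funOf 𝒜 W c) = 0 := by
    rw [pullTo_congr e h2 h3, pullTo_comp _ (top_le_chart hW' hle) _ h3, pullTo_funOf hW' hle]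
    exact haug W' hW' n _ (hc W' hW' hle)
  rw [← pullTo_fromSpec hW' h1 (j0.appLE _ _ _ _)]
  refine Eq.trans ?_ h4
  show (j0.appLE (𝒜.toQCAlg.π ⁻¹ᵁ W) W' _ ≫ hW'.fromSpec.appLE W' ⊤ h1 ≫ (Scheme.ΓSpecIso _).hom) (funOf 𝒜 W c) =
    ((hW'.fromSpec ≫ j0).appLE (𝒜.toQCAlg.π ⁻¹ᵁ W) ⊤ h2 ≫ (Scheme.ΓSpecIso _).hom) (funOf 𝒜 W c)
  rw [← Scheme.Hom.appLE_comp_appLE hW'.fromSpec j0 (𝒜.toQCAlg.π ⁻¹ᵁ W) W' ⊤ _ h1, Category.assoc]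

variable (hL : PicF.IsInvertible L) (hLq : Coh.IsQCoh L) (hj : RelProj.IsGrSymAlg L 𝒜 j)

include hL hLq hj in
theorem mem_basicOpen_funOf {W : X.Opens} {n : ℕ} {c : 𝒜.presheaf.obj (op W)}
    (hc : IsHom 𝒜 W (n + 1) c) (z : 𝒜.toQCAlg.spec) :
    z ∈ 𝒜.toQCAlg.spec.basicOpen (funOf 𝒜 W c) ↔
      z ∈ RelCone.pointedCone 𝒜 ∧ 𝒜.toQCAlg.π z ∈ nv 𝒜 W (n + 1) c := by
  classical
  by_cases hzW : 𝒜.toQCAlg.π z ∈ W
  swap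
  · exact iff_of_false (fun h => hzW (𝒜.toQCAlg.spec.basicOpen_le _ h)) fun h => hzW (SymAlg11.nv_le _ _ _ h.2)
  obtain ⟨W', hW', hle, e, a, hzW', -, he, ha⟩ := SymAlg11.exists_local hLq hj hL hc ⊤ trivial hzW
  obtain ⟨q, rfl⟩ := RelCone11.mem_range_ι 𝒜.toQCAlg hW' z hzW'
  rw [preimage_basicOpen_pullTo _ (top_le_chart hW' hle), pullTo_funOf hW' hle, ha,
    RelCone11.mem_pointedCone_iff 𝒜 hW', RelCone11.mem_vertexCompl,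
    SymAlg11.mem_nv_iff hLq hj hW' hle he ha hzW']
  have hir : ((𝒜.deg W' hW')₊).toIdeal ≤ q.asIdeal ↔ tgen j W' e ∈ q.asIdeal := by
    refine ⟨fun h => h (HomogeneousIdeal.mem_irrelevant_of_mem _ one_pos (SymAlg11.tgen_mem hj hW' e)), fun h => ?_⟩
    refine (HomogeneousIdeal.toIdeal_irrelevant_le _).2 fun d hd y hy => ?_
    obtain ⟨b, rfl⟩ := SymAlg11.exists_eq_of_mem hLq hj hW' he hy
    exact Ideal.mul_mem_left _ _ (Ideal.pow_mem_of_mem _ h d hd)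
  have hπ : 𝒜.toQCAlg.π (𝒜.toQCAlg.ι W' hW' q) ∈ X.basicOpen a ↔ (𝒜.str.app (op W')).hom a ∉ q.asIdeal := by
    rw [← Scheme.Hom.comp_apply, RelSpec.QCAlg.ι_π, Scheme.Hom.comp_apply]
    show _ ∈ hW'.fromSpec ⁻¹ᵁ X.basicOpen a ↔ _
    rw [hW'.fromSpec_preimage_basicOpen]
    rfl
  rw [hir, hπ]
  refine ⟨fun h => ⟨fun h' => h (Ideal.mul_mem_left _ _ (Ideal.pow_mem_of_mem _ h' _ n.succ_pos)),
    fun h' => h (Ideal.mul_mem_right _ _ h')⟩, fun ⟨h1, h2⟩ h => ?_⟩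
  rcases q.isPrime.mem_or_mem h with h | h
  · exact h2 h
  · exact h1 (q.isPrime.mem_of_pow_mem _ h)

variable {Y : Scheme.{u}} {p : X ⟶ Y}

include hL hLq hj in
/-- Finitely many homogeneous sections with affine loci covering the preimage of an affine open. -/
theorem exists_loci (hp : RelAmple.IsRelAmple p L) {U : Y.Opens} (hU : IsAffineOpen U) :
    ∃ (ι : Type u) (_ : Finite ι) (n : ι → ℕ) (c : ι → 𝒜.presheaf.obj (op (p ⁻¹ᵁ U))),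
      (∀ i, IsHom 𝒜 (p ⁻¹ᵁ U) (n i + 1) (c i)) ∧ (∀ i, IsAffineOpen (nv 𝒜 (p ⁻¹ᵁ U) (n i + 1) (c i))) ∧
      p ⁻¹ᵁ U ≤ ⨆ i, nv 𝒜 (p ⁻¹ᵁ U) (n i + 1) (c i) := by
  classical
  haveI := hp.1
  obtain ⟨-, hK, h⟩ := Amp.isAmple_iff.1 (hp.2 ⟨U, hU⟩)
  haveI := hK
  choose n G hG hxG hGA using h
  obtain ⟨s, hs⟩ := isCompact_univ.elim_finite_subcover
    (fun x => (G x : Set (p ⁻¹ᵁ U).toScheme)) (fun x => (G x).2) fun x _ => Set.mem_iUnion.2 ⟨x, hxG x⟩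
  choose c hc hnv using fun x => SymAlg11.exists_sec_of_hasSec hLq hj hL (p ⁻¹ᵁ U) (hG x)
  refine ⟨s, inferInstance, fun i => n i.1, fun i => c i.1, fun i => hc i.1, fun i => ?_, fun x hx => ?_⟩
  · show IsAffineOpen (nv 𝒜 (p ⁻¹ᵁ U) (n i.1 + 1) (c i.1))
    rw [hnv]
    exact (hGA i.1).image_of_isOpenImmersion _
  · obtain ⟨i, hi, hxi⟩ := Set.mem_iUnion₂.1 (hs (Set.mem_univ ⟨x, hx⟩))
    refine Opens.mem_iSup.2 ⟨⟨i, hi⟩, ?_⟩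
    show x ∈ nv 𝒜 (p ⁻¹ᵁ U) (n i + 1) (c i)
    rw [hnv]
    exact ⟨⟨x, hx⟩, hxi, rfl⟩

include hL hLq hj hj0 in
/-- An ample line bundle satisfies the hypothesis of the contraction. -/
theorem hasLoci [QuasiCompact p] [QuasiSeparated p] (hjf : j0 ≫ (𝒜.toQCAlg.π ≫ p) = p)
    (haug : RelCone.IsAugmentation 𝒜 aug) {V0 : 𝒜.toQCAlg.spec.Opens}
    (hV0 : ∀ z, z ∈ RelCone.pointedCone 𝒜 ↔ z ∈ V0) (hp : RelAmple.IsRelAmple p L) :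
    HasLoci hjf V0 := by
  intro U hU
  obtain ⟨ι, hfin, n, c, hc, hA, hcov⟩ := exists_loci hL hLq hj hp hU
  refine ⟨ι, hfin, fun i => funOf 𝒜 (p ⁻¹ᵁ U) (c i), fun i => vertex_funOf hj0 haug (hc i), fun i => ?_, ?_⟩
  · let N := nv 𝒜 (p ⁻¹ᵁ U) (n i + 1) (c i)
    have hle : 𝒜.toQCAlg.spec.basicOpen (funOf 𝒜 (p ⁻¹ᵁ U) (c i)) ≤ 𝒜.toQCAlg.π ⁻¹ᵁ N :=
      fun z hz => ((mem_basicOpen_funOf hL hLq hj (hc i) z).1 hz).2
    have hN : IsAffineOpen (𝒜.toQCAlg.π ⁻¹ᵁ N) := (hA i).preimage _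
    have := hN.basicOpen ((𝒜.toQCAlg.spec.presheaf.map
      (homOfLE (𝒜.toQCAlg.π.preimage_mono (SymAlg11.nv_le _ _ _))).op).hom (funOf 𝒜 (p ⁻¹ᵁ U) (c i)))
    rw [Scheme.basicOpen_res] at this
    rwa [inf_eq_right.2 hle] at this
  · refine TopologicalSpace.Opens.ext (Set.ext fun z => ⟨fun ⟨hz0, hzU⟩ => ?_, fun hz => ?_⟩)
    · obtain ⟨i, hi⟩ := Opens.mem_iSup.1 (hcov hzU)
      exact Opens.mem_iSup.2 ⟨i, (mem_basicOpen_funOf hL hLq hj (hc i) z).2 ⟨(hV0 z).2 hz0, hi⟩⟩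
    · obtain ⟨i, hi⟩ := Opens.mem_iSup.1 hz
      exact ⟨(hV0 z).1 ((mem_basicOpen_funOf hL hLq hj (hc i) z).1 hi).1, 𝒜.toQCAlg.spec.basicOpen_le _ hi⟩

end Groth.Agent.Grauert11
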