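import Groth.Agent.Lib.Grauert11.Proper

/-!
Grauert's criterion of ampleness.
-/

set_option autoImplicit false

universe u

open CategoryTheory Limits AlgebraicGeometry TopologicalSpace Opposite

set_option backward.isDefEq.respectTransparency false

noncomputable section

namespace Groth.Agent.Grauert11

variable {X Y : Scheme.{u}} {L : X.Modules} {𝒜 : RelProj.QCGrAlg X} {j : L ⟶ 𝒜.toModule}
  {aug : 𝒜.toQCAlg ⟶ RelSpec.QCAlg.unit X} {j0 : X ⟶ 𝒜.toQCAlg.spec}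
  (hj0 : RelCone.IsVertex 𝒜 aug j0) {p : X ⟶ Y} [QuasiCompact p] [QuasiSeparated p]
  (hL : PicF.IsInvertible L) (hLq : Coh.IsQCoh L) (hj : RelProj.IsGrSymAlg L 𝒜 j)
  (haug : RelCone.IsAugmentation 𝒜 aug) (h0 : RelCone.StrZeroBij 𝒜)
  {V0 : 𝒜.toQCAlg.spec.Opens} (hV0 : (V0 : Set 𝒜.toQCAlg.spec) = (Set.range j0.base)ᶜ)

omit [QuasiCompact p] [QuasiSeparated p] in
include hj0 in
theorem vertex_comp : j0 ≫ (𝒜.toQCAlg.π ≫ p) = p := by
  rw [← Category.assoc, hj0.comp_π, Category.id_comp]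

include hj0 hL hLq hj haug h0 hV0 in
/-- The contraction exists when `L` is relatively ample. -/
theorem exists_contraction (hp : RelAmple.IsRelAmple p L) :
    ∃ (C : Scheme.{u}) (g : C ⟶ Y) (ε : Y ⟶ C) (q : 𝒜.toQCAlg.spec ⟶ C),
      ε ≫ g = 𝟙 Y ∧ q ≫ g = 𝒜.toQCAlg.π ≫ p ∧ j0 ≫ q = p ≫ ε ∧ IsSeparated g ∧
        IsOpenImmersion (V0.ι ≫ q) ∧ QuasiCompact (V0.ι ≫ q) ∧
          Set.range (V0.ι ≫ q).base ∩ Set.range ε.base = ∅ := by
  have hpc : ∀ z, z ∈ RelCone.pointedCone 𝒜 ↔ z ∈ V0 := fun z => by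
    rw [← SetLike.mem_coe, RelCone11.pointedCone_eq_compl 𝒜 aug h0 haug hj0, ← hV0, SetLike.mem_coe]
  have hjf := vertex_comp (p := p) hj0
  have H := hasLoci hj0 hL hLq hj hjf haug hpc hp
  exact ⟨_, (contrAlg hjf).π, contrSec hjf, contrMap hjf, contrSec_π hjf, contrMap_π hjf, comp_contrMap hjf,
    inferInstance, isOpenImmersion_contr hjf H, quasiCompact_contr hjf H, disjoint_contr hjf H⟩

include hj0 hL hLq hj haug h0 hV0 in
/-- For a proper morphism the contraction is proper and surjects. -/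
theorem exists_proper_contraction [IsProper p] (hp : RelAmple.IsRelAmple p L) :
    ∃ (C : Scheme.{u}) (g : C ⟶ Y) (ε : Y ⟶ C) (q : 𝒜.toQCAlg.spec ⟶ C),
      ε ≫ g = 𝟙 Y ∧ q ≫ g = 𝒜.toQCAlg.π ≫ p ∧ j0 ≫ q = p ≫ ε ∧ IsProper q ∧
        IsOpenImmersion (V0.ι ≫ q) ∧ QuasiCompact (V0.ι ≫ q) ∧
          Set.range (V0.ι ≫ q).base = (Set.range ε.base)ᶜ := by
  have hpc : ∀ z, z ∈ RelCone.pointedCone 𝒜 ↔ z ∈ V0 := fun z => by
    rw [← SetLike.mem_coe, RelCone11.pointedCone_eq_compl 𝒜 aug h0 haug hj0, ← hV0, SetLike.mem_coe]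
  have hjf := vertex_comp (p := p) hj0
  have H := hasLoci hj0 hL hLq hj hjf haug hpc hp
  haveI hq := isProper_contrMap hj0 hL hLq hj hjf haug hp
  exact ⟨_, (contrAlg hjf).π, contrSec hjf, contrMap hjf, contrSec_π hjf, contrMap_π hjf, comp_contrMap hjf,
    hq, isOpenImmersion_contr hjf H, quasiCompact_contr hjf H,
    range_contr_of_isClosed hjf H (contrMap hjf).isClosedMap.isClosed_range hV0⟩

end Groth.Agent.Grauert11
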