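import Groth.Agent.Lib.Grauert11.Loci
import Mathlib.AlgebraicGeometry.Morphisms.Finite
import Mathlib.AlgebraicGeometry.Morphisms.Proper

/-!
For a proper base morphism the contraction is proper.
-/

set_option autoImplicit false

universe u

open CategoryTheory Limits AlgebraicGeometry TopologicalSpace Opposite

set_option backward.isDefEq.respectTransparency false

noncomputable section

namespace Groth.Agent.Grauert11

open Groth.Agent.SymAlg11 (gres IsHom tgen nv)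

theorem eq_SpecMap_pullTo {V : Scheme.{u}} {O : V.Opens} (hO : IsAffineOpen O) {R : CommRingCat.{u}}
    (g : Spec R ⟶ V) (h : ⊤ ≤ g ⁻¹ᵁ O) : g = Spec.map (CommRingCat.ofHom (pullTo g h)) ≫ hO.fromSpec := by
  show g = Spec.map (g.appLE O ⊤ h ≫ (Scheme.ΓSpecIso R).hom) ≫ hO.fromSpec
  rw [Spec.map_comp_assoc, hO.SpecMap_appLE_fromSpec g (isAffineOpen_top _) h, IsAffineOpen.fromSpec_top,
    ← Scheme.isoSpec_Spec_hom, Iso.hom_inv_id_assoc]

theorem comp_lift_eq {S P : Scheme.{u}} (A : RelSpec.QCAlg S) (h : P ⟶ S) (ω : A.presheaf ⟶ h.base _* P.presheaf)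
    {U : S.Opens} (hU : IsAffineOpen U) {R : CommRingCat.{u}} (g : Spec R ⟶ P) (hg : ⊤ ≤ g ⁻¹ᵁ (h ⁻¹ᵁ U)) :
    g ≫ QCGen12.lift A h ω =
      Spec.map (ω.app (op U) ≫ CommRingCat.ofHom (pullTo g hg)) ≫ A.ι U hU := by
  let m : Spec R ⟶ (h ⁻¹ᵁ U).toScheme := (Spec R).topIso.inv ≫ g.resLE (h ⁻¹ᵁ U) ⊤ hg
  have hm : m ≫ (h ⁻¹ᵁ U).ι = g := by
    rw [Category.assoc, Scheme.Hom.resLE_comp_ι, ← Scheme.topIso_hom, Iso.inv_hom_id_assoc]
  have hm' : m ≫ (h ⁻¹ᵁ U).toSpecΓ = Spec.map (CommRingCat.ofHom (pullTo g hg)) := by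
    show _ = Spec.map (g.appLE (h ⁻¹ᵁ U) ⊤ hg ≫ (Scheme.ΓSpecIso R).hom)
    rw [Category.assoc, ← Scheme.Opens.toSpecΓ_SpecMap_appLE, Spec.map_comp, ← Category.assoc,
      Scheme.Opens.toSpecΓ_top, ← Scheme.topIso_hom, Iso.inv_hom_id_assoc, ← SpecMap_ΓSpecIso_hom]
  conv_lhs => rw [← hm, Category.assoc, QCGen12.ι_lift A h ω U hU, reassoc_of% hm']
  rw [← Spec.map_comp_assoc]

/-- The section of the direct image given by a section of the algebra. -/
def secOf {S : Scheme.{u}} (A : RelSpec.QCAlg S) (W : S.Opens) (c : A.presheaf.obj (op W)) :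
    Γ(A.spec, A.π ⁻¹ᵁ W) :=
  ((RelSpecB.gammaInv A).app (op W)).hom c

theorem pullTo_secOf {S : Scheme.{u}} (A : RelSpec.QCAlg S) {W : S.Opens} (hW : IsAffineOpen W)
    (c : A.presheaf.obj (op W)) : pullTo (A.ι W hW) (A.top_le_preimage W hW) (secOf A W c) = c := by
  have h1 := ConcreteCategory.congr_hom (NatTrans.congr_app (RelSpecB.gammaInv_gammaMap A) (op W)) c
  have h2 : (A.gammaMap.app (op W)).hom (secOf A W c) = c := h1
  rw [A.gammaMap_app W hW] at h2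
  exact h2

variable {X Y : Scheme.{u}} {L : X.Modules} {𝒜 : RelProj.QCGrAlg X} {j : L ⟶ 𝒜.toModule}
  {aug : 𝒜.toQCAlg ⟶ RelSpec.QCAlg.unit X} {j0 : X ⟶ 𝒜.toQCAlg.spec}
  (hj0 : RelCone.IsVertex 𝒜 aug j0) {p : X ⟶ Y} [IsProper p]
  (hL : PicF.IsInvertible L) (hLq : Coh.IsQCoh L) (hj : RelProj.IsGrSymAlg L 𝒜 j)
  (hjf : j0 ≫ (𝒜.toQCAlg.π ≫ p) = p)

include hL hLq hj hj0 in
theorem isProper_contrMap (haug : RelCone.IsAugmentation 𝒜 aug) (hp : RelAmple.IsRelAmple p L) :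
    IsProper (contrMap hjf) := by
  classical
  let q := contrMap hjf
  let gC := (contrAlg hjf).π
  let l : 𝒜.toQCAlg.spec ⟶ pullback p gC :=
    pullback.lift 𝒜.toQCAlg.π q (contrMap_π hjf).symm
  suffices IsFinite l by
    haveI : IsProper (pullback.snd p gC) := MorphismProperty.pullback_snd p gC inferInstance
    have e : q = l ≫ pullback.snd p gC := (pullback.lift_snd _ _ _).symm
    show IsProper q
    rw [e]
    infer_instance
  haveI : IsAffineHom (pullback.fst p gC) := MorphismProperty.pullback_fst p gC inferInstance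
  have key : ∀ x : X, ∃ W : X.Opens, x ∈ W ∧ IsAffineOpen W ∧ IsFinite (l ∣_ (pullback.fst p gC ⁻¹ᵁ W)) := by
    intro x
    obtain ⟨U, hU, hxU, -⟩ := exists_isAffineOpen_mem_and_subset (U := (⊤ : Y.Opens)) (x := p x) trivial
    obtain ⟨ι, _, n, c, hc, -, hcov⟩ := exists_loci hL hLq hj hp hU
    obtain ⟨i, hi⟩ := Opens.mem_iSup.1 (hcov hxU)
    obtain ⟨W₁, hW₁, hle₁, e₁, a₁, hxW₁, -, he₁, ha₁⟩ := SymAlg11.exists_local hLq hj hL (hc i) ⊤ trivial hxU
    have hxa : x ∈ X.basicOpen a₁ := (SymAlg11.mem_nv_iff hLq hj hW₁ hle₁ he₁ ha₁ hxW₁).1 hi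
    let W := X.basicOpen a₁
    have hW : IsAffineOpen W := hW₁.basicOpen a₁
    have hWW : W ≤ W₁ := X.basicOpen_le a₁
    let e := M1.mres L hWW e₁
    have he : M2.IsGenerator e := SymAlg11.isGenerator_mres he₁ hWW
    obtain ⟨v, hv⟩ : ∃ v : Γ(X, W), M1.ores hWW a₁ * v = 1 :=
      isUnit_iff_exists_inv.mp (RingedSpace.isUnit_res_basicOpen X.toRingedSpace a₁)
    have ha : gres 𝒜 (hWW.trans hle₁) (c i) =
        (𝒜.str.app (op W)).hom (M1.ores hWW a₁) * tgen j W e ^ (n i + 1) := by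
      rw [← SymAlg11.gres_gres hle₁ hWW, ha₁, map_mul, map_pow, SymAlg11.gres_str, SymAlg11.gres_tgen]
    refine ⟨W, hxa, hW, ?_⟩
    let O := pullback.fst p gC ⁻¹ᵁ W
    have hO : IsAffineOpen O := hW.preimage _
    let gl := 𝒜.toQCAlg.ι W hW ≫ l
    have hfst : l ≫ pullback.fst p gC = 𝒜.toQCAlg.π := pullback.lift_fst _ _ _
    have hlO : l ⁻¹ᵁ O = 𝒜.toQCAlg.π ⁻¹ᵁ W := by rw [← Scheme.Hom.comp_preimage, hfst]
    have hg : ⊤ ≤ gl ⁻¹ᵁ O := fun z _ => by
      show 𝒜.toQCAlg.ι W hW z ∈ l ⁻¹ᵁ O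
      rw [hlO]
      exact RelCone11.π_ι_mem 𝒜.toQCAlg hW z
    let φ := pullTo gl hg
    have hstr : ∀ a : Γ(X, W), φ ((pullback.fst p gC).app W a) = (𝒜.str.app (op W)).hom a := by
      intro a
      have h1 : ⊤ ≤ (gl ≫ pullback.fst p gC) ⁻¹ᵁ W := hg
      have h2 : ⊤ ≤ (Spec.map (𝒜.str.app (op W)) ≫ hW.fromSpec) ⁻¹ᵁ W := by
        rw [Scheme.Hom.comp_preimage, hW.fromSpec_preimage_self]; exact le_top
      have e1 : gl ≫ pullback.fst p gC = Spec.map (𝒜.str.app (op W)) ≫ hW.fromSpec := by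
        rw [Category.assoc, hfst, RelSpec.QCAlg.ι_π]
      have h3 : pullTo (gl ≫ pullback.fst p gC) h1 a = φ ((pullback.fst p gC).app W a) := by
        show ((gl ≫ pullback.fst p gC).appLE W ⊤ h1 ≫ _) a =
          ((pullback.fst p gC).app W ≫ gl.appLE O ⊤ hg ≫ (Scheme.ΓSpecIso _).hom) a
        rw [← Scheme.Hom.comp_appLE_assoc gl (pullback.fst p gC) W]
      rw [← h3, pullTo_congr e1 h1 h2, pullTo_comp _ hW.fromSpec_preimage_self.ge _ h2, pullTo_fromSpec hW]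
    have hmem : ∃ z, φ z = gres 𝒜 (hWW.trans hle₁) (c i) := by
      let b := funOf 𝒜 (p ⁻¹ᵁ U) (c i)
      let s := contrFun hjf (b := b) (vertex_funOf hj0 haug (hc i))
      let σ := secOf (contrAlg hjf) U s
      have hsnd : O ≤ pullback.snd p gC ⁻¹ᵁ (gC ⁻¹ᵁ U) := by
        rw [← Scheme.Hom.comp_preimage, ← pullback.condition]
        exact Scheme.Hom.preimage_mono _ (hWW.trans hle₁)
      refine ⟨((pullback.snd p gC).appLE (gC ⁻¹ᵁ U) O hsnd).hom σ, ?_⟩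
      have h1 : ⊤ ≤ (gl ≫ pullback.snd p gC) ⁻¹ᵁ (gC ⁻¹ᵁ U) := fun z hz => hsnd (hg hz)
      have h2 : φ (((pullback.snd p gC).appLE (gC ⁻¹ᵁ U) O hsnd).hom σ) = pullTo (gl ≫ pullback.snd p gC) h1 σ := by
        show ((pullback.snd p gC).appLE (gC ⁻¹ᵁ U) O hsnd ≫ gl.appLE O ⊤ hg ≫ (Scheme.ΓSpecIso _).hom) σ =
          ((gl ≫ pullback.snd p gC).appLE (gC ⁻¹ᵁ U) ⊤ h1 ≫ _) σ
        rw [Scheme.Hom.appLE_comp_appLE_assoc]
      have h3 : ⊤ ≤ 𝒜.toQCAlg.ι W hW ⁻¹ᵁ ((𝒜.toQCAlg.π ≫ p) ⁻¹ᵁ U) := top_le_chart hW (hWW.trans hle₁)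
      have e2 : gl ≫ pullback.snd p gC = Spec.map ((fibSnd (unitTo p) (restr hjf)).hom.app (op U) ≫
          CommRingCat.ofHom (pullTo (𝒜.toQCAlg.ι W hW) h3)) ≫ (contrAlg hjf).ι U hU := by
        rw [Category.assoc, pullback.lift_snd]
        exact comp_lift_eq _ _ _ hU _ h3
      rw [h2, pullTo_congr e2 h1 (fun z _ => (contrAlg hjf).top_le_preimage U hU trivial),
        pullTo_comp _ ((contrAlg hjf).top_le_preimage U hU), pullTo_secOf]
      exact pullTo_funOf hW (hWW.trans hle₁) (c i)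
    have hfin : φ.Finite := by
      letI := φ.toAlgebra
      have hint : IsIntegral Γ(pullback p gC, O) (tgen j W e) := by
        refine IsIntegral.of_pow (n := n i + 1) (Nat.succ_pos _) ?_
        obtain ⟨z, hz⟩ := hmem
        have h1 : tgen j W e ^ (n i + 1) = φ ((pullback.fst p gC).app W v * z) := by
          rw [map_mul, hstr, hz, ha, ← mul_assoc, ← map_mul, mul_comm v, hv, map_one, one_mul]
        rw [h1]
        exact isIntegral_algebraMap
      have htop : Algebra.adjoin Γ(pullback p gC, O) {tgen j W e} = ⊤ := by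
        refine eq_top_iff.2 fun y _ => ?_
        obtain ⟨P, rfl⟩ := (SymAlg11.bijective_poly hLq hj hW he).2 y
        induction P using Polynomial.induction_on' with
        | add P Q hP hQ => rw [map_add]; exact add_mem (hP trivial) (hQ trivial)
        | monomial k a =>
          rw [Polynomial.coe_eval₂RingHom, Polynomial.eval₂_monomial, ← hstr]
          exact mul_mem (Subalgebra.algebraMap_mem _ _) (pow_mem (Algebra.self_mem_adjoin_singleton _ _) k)
      have := hint.fg_adjoin_singleton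
      rw [htop, Algebra.top_toSubmodule] at this
      exact ⟨this⟩
    let κ : (l ⁻¹ᵁ O).toScheme ≅ Spec (𝒜.presheaf.obj (op W)) :=
      𝒜.toQCAlg.spec.isoOfEq hlO ≪≫ RelCone11.specPreimage 𝒜.toQCAlg W hW
    have e3 : l ∣_ O = κ.hom ≫ Spec.map (CommRingCat.ofHom φ) ≫ hO.isoSpec.inv := by
      rw [← cancel_mono O.ι, morphismRestrict_ι, Category.assoc, Category.assoc,
        show hO.isoSpec.inv ≫ O.ι = hO.fromSpec from rfl, ← eq_SpecMap_pullTo hO gl hg]
      simp only [gl, κ, Iso.trans_hom, Category.assoc, reassoc_of% (RelCone11.specPreimage_ι 𝒜.toQCAlg W hW),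
        Scheme.isoOfEq_hom_ι_assoc]
    haveI : IsFinite (Spec.map (CommRingCat.ofHom φ)) := (IsFinite.SpecMap_iff _).2 hfin
    show IsFinite (l ∣_ O)
    rw [e3]
    infer_instance
  choose W hxW hW hfin using key
  refine IsZariskiLocalAtTarget.of_iSup_eq_top (P := @IsFinite) (fun x => pullback.fst p gC ⁻¹ᵁ W x)
    (top_le_iff.1 fun z _ => Opens.mem_iSup.2 ⟨pullback.fst p gC z, hxW _⟩) hfin

end Groth.Agent.Grauert11
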